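import Cfsg.Agent.Lib.CosetEnum.Fi22Mult.Data
import Cfsg.Agent.Lib.CosetEnum.Fi22Out.Data
import Cfsg.Agent.Lib.CosetEnum.Fi22U62.Data
import Cfsg.Agent.Lib.CosetEnum.Groups.Fi22
import Cfsg.Agent.Lib.CosetEnum.Trans.DefsSame

/-! Kernel checks. -/

set_option autoImplicit false
set_option maxRecDepth 100000
set_option Elab.async false

namespace Cfsg.Lib.CosetEnum.Fi22Mult

open Fi22U62 (tabP)
open Fi22Out (pts)

/-- The spider relator. -/
def relSpider : List Nat := Fi22Pres.extra.getD 0 []

/-- The second extra relator. -/
def relLeft : List Nat := Fi22Pres.extra.getD 1 []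

/-- The third extra relator. -/
def relRight : List Nat := Fi22Pres.extra.getD 2 []

theorem words_ok : words.all (fun w => w.all fun g => Nat.blt g 9) = true := by decide +kernel

theorem pairs_ok : evenProgsOK tabP 9 pts words Fi22Pres.numbering.pairs progPairs = true := by
  decide +kernel

theorem spider_run : runSeq tabP 9 (pts.getD 0 0) words progSpider
    (seqOf pts relSpider ++ seqOf pts relSpider ++ seqOf pts relSpider) [] = true := by decide +kernel

theorem left_run : runSeq tabP 9 (pts.getD 0 0) words progLeft
    (seqOf pts relLeft ++ seqOf pts relLeft) [] = true := by decide +kernel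

theorem right_run : runSeq tabP 9 (pts.getD 0 0) words progRight
    (seqOf pts relRight ++ seqOf pts relRight) [] = true := by decide +kernel

theorem first_ok : sameOK tabP 9 pts (conjProd Fi22U62.subWords 2 firstFactors) [0] = true := by
  decide +kernel

theorem one_ok : sameOK tabP 9 pts (conjProd Fi22U62.subWords 2 oneFactors) [] = true := by
  decide +kernel

theorem last_ok : sameOK tabP 9 pts (conjProd Fi22U62.subWords 2 lastFactors)
    (Fi22U62.subWords.getD 8 []) = true := by decide +kernel

theorem sub_fix : (Fi22U62.subWords.all fun u => (u.all fun g => Nat.blt g 9) &&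
    Nat.beq (twalk tabP 9 u (pts.getD 0 0)) (pts.getD 0 0)) = true := by decide +kernel

end Cfsg.Lib.CosetEnum.Fi22Mult
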