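import Cfsg.Agent.Lib.CosetEnum.Fi22Mult.Mats
import Cfsg.Agent.Lib.CosetEnum.MatList
import Cfsg.Agent.Lib.CosetEnum.Groups.Fi22

/-! Kernel checks. -/

set_option autoImplicit false
set_option maxRecDepth 100000
set_option Elab.async false

namespace Cfsg.Lib.CosetEnum.Fi22Mult

open MatList

theorem mats_shape : mats.length = 9 ∧ mats.all (shapeOK 27) = true := by decide +kernel

theorem mats_sq : mats.all (sqOK 27) = true := by decide +kernel

theorem mats_pairs : Fi22Pres.numbering.pairs.all (valOK 27 mats GF4.i) = true := by decide +kernel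

theorem mats_spider : valOK 27 mats lam (Fi22Pres.extra.getD 0 []) = true := by decide +kernel

theorem mats_left : valOK 27 mats GF4.i (Fi22Pres.extra.getD 1 []) = true := by decide +kernel

theorem mats_right : valOK 27 mats GF4.i (Fi22Pres.extra.getD 2 []) = true := by decide +kernel

end Cfsg.Lib.CosetEnum.Fi22Mult
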