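import Cfsg.Agent.Lib.CosetEnum.Fi23Out.Data
import Cfsg.Agent.Lib.CosetEnum.Fi23Fi22.Data
import Cfsg.Agent.Lib.CosetEnum.Groups.Fi22
import Cfsg.Agent.Lib.CosetEnum.Trans.DefsSame

/-! Kernel checks. -/

set_option autoImplicit false
set_option maxRecDepth 100000
set_option Elab.async false

namespace Cfsg.Lib.CosetEnum.Fi22Mult

/-- The generators of Fi23 that stand for those of Fi22. -/
def to23 (g : Nat) : Nat := [0, 1, 2, 3, 4, 5, 6, 8, 9].getD g 0

/-- The double cover's central involution as a word of Fi23. -/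
def centre23 : List Nat := (Fi22Pres.extra.getD 2 []).map to23

theorem rel23 : (Fi22Pres.numbering.pairs ++ [Fi22Pres.extra.getD 0 [], Fi22Pres.extra.getD 1 []]).all
    (fun r => (r.all fun g => Nat.blt g 9) &&
      decide (r.map to23 ∈ Fi23Fi22.cert.R0)) = true := by decide +kernel

theorem centre23_comm : (List.range 9).all (fun g =>
    sameOK Fi23Fi22.tabP 10 Fi23Out.pts (centre23 ++ [to23 g]) ([to23 g] ++ centre23)) = true := by
  decide +kernel

theorem centre23_sq :
    sameOK Fi23Fi22.tabP 10 Fi23Out.pts (centre23 ++ centre23) [] = true := by decide +kernel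

theorem centre23_ne : ∃ g < 10, twalk Fi23Fi22.tabP 10 centre23 (Fi23Out.pts.getD g 0) ≠
    Fi23Out.pts.getD g 0 := ⟨7, by decide, by decide +kernel⟩

theorem noncomm23 : twalk Fi23Fi22.tabP 10 [1] (Fi23Out.pts.getD 0 0) ≠ Fi23Out.pts.getD 0 0 := by
  decide +kernel

end Cfsg.Lib.CosetEnum.Fi22Mult
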