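import Cfsg.Agent.Lib.CosetEnum.Trans.DefsRewrite

/-! Generated certificate. -/

set_option autoImplicit false
set_option maxRecDepth 100000

namespace Cfsg.Lib.CosetEnum.Fi22Mult

/-- Words leading from the first point to the points moved. -/
def words : List (List Nat) :=
  [[],
    [1, 0],
    [1, 0, 2, 1],
    [1, 0, 2, 1, 3, 2],
    [1, 0, 2, 1, 3, 2, 4, 3],
    [1, 0, 2, 1, 3, 2, 4, 3, 5, 4],
    [1, 0, 2, 1, 3, 2, 4, 3, 5, 4, 6, 5],
    [1, 0, 2, 1, 3, 2, 7, 3],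
    [1, 0, 2, 1, 3, 2, 7, 3, 8, 7]]

/-- The cube of the spider relator. -/
def progSpider : List (Nat × Nat) :=
  [(45, 4), (44, 9), (43, 8), (42, 4), (41, 6), (40, 5), (39, 4), (38, 2), (37, 3), (36, 4), (35, 9), (34, 8),
    (33, 4), (32, 6), (31, 5), (30, 4), (29, 2), (28, 3), (27, 4), (26, 9), (25, 8), (24, 4), (23, 6), (22, 5),
    (21, 4), (20, 2), (19, 3), (18, 4), (17, 9), (16, 8), (15, 4), (14, 6), (13, 5), (12, 4), (11, 2), (10, 3),
    (9, 4), (8, 9), (7, 8), (6, 4), (5, 6), (4, 5), (3, 4), (2, 2), (1, 0), (1, 2), (0, 0), (43, 2),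
    (42, 0), (41, 9), (40, 8), (39, 4), (38, 6), (37, 5), (36, 4), (35, 0), (41, 5), (40, 9), (39, 8), (38, 4),
    (37, 6), (36, 5), (35, 0), (43, 9), (42, 8), (41, 4), (40, 5), (39, 9), (38, 8), (37, 4), (36, 6), (35, 5),
    (34, 3), (33, 4), (32, 0), (41, 8), (40, 4), (39, 5), (38, 9), (37, 8), (36, 4), (35, 6), (34, 5), (33, 3),
    (32, 4), (31, 8), (30, 4), (29, 0), (45, 6), (44, 5), (43, 4), (42, 2), (41, 3), (40, 8), (39, 4), (38, 5),
    (37, 9), (36, 8), (35, 4), (34, 6), (33, 5), (32, 3), (31, 4), (30, 8), (29, 0), (44, 6), (43, 5), (42, 4),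
    (41, 2), (40, 3), (39, 8), (38, 4), (37, 5), (36, 9), (35, 8), (34, 4), (33, 6), (32, 5), (31, 3), (30, 4),
    (29, 8), (28, 0), (44, 9), (43, 6), (42, 5), (41, 4), (40, 2), (39, 3), (38, 8), (37, 4), (36, 5), (35, 9),
    (34, 8), (33, 4), (32, 6), (31, 5), (30, 3), (29, 4), (28, 8), (27, 0), (42, 6), (41, 5), (40, 4), (39, 2),
    (38, 3), (37, 8), (36, 4), (35, 5), (34, 9), (33, 8), (32, 4), (31, 6), (30, 5), (29, 3), (28, 4), (27, 8),
    (26, 2), (25, 3), (24, 4), (23, 9), (22, 8), (21, 4), (20, 0), (42, 3), (41, 6), (40, 5), (39, 4), (38, 2),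
    (37, 3), (36, 8), (35, 4), (34, 5), (33, 9), (32, 8), (31, 4), (30, 6), (29, 5), (28, 3), (27, 4), (26, 8),
    (25, 2), (24, 3), (23, 4), (22, 9), (21, 8), (20, 0), (44, 6), (43, 5), (42, 4), (41, 3), (40, 6), (39, 5),
    (38, 4), (37, 2), (36, 3), (35, 8), (34, 4), (33, 5), (32, 9), (31, 8), (30, 4), (29, 6), (28, 5), (27, 3),
    (26, 4), (25, 8), (24, 2), (23, 3), (22, 4), (21, 9), (20, 8), (19, 5), (18, 4), (17, 0), (42, 5), (41, 4),
    (40, 3), (39, 6), (38, 5), (37, 4), (36, 2), (35, 3), (34, 8), (33, 4), (32, 5), (31, 9), (30, 8), (29, 4),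
    (28, 6), (27, 5), (26, 3), (25, 4), (24, 8), (23, 2), (22, 3), (21, 4), (20, 9), (19, 8), (18, 5), (17, 4),
    (16, 3), (15, 4), (14, 0), (46, 2), (45, 3), (44, 4), (43, 9), (42, 8), (41, 5), (40, 4), (39, 3), (38, 6),
    (37, 5), (36, 4), (35, 2), (34, 3), (33, 8), (32, 4), (31, 5), (30, 9), (29, 8), (28, 4), (27, 6), (26, 5),
    (25, 3), (24, 4), (23, 8), (22, 2), (21, 3), (20, 4), (19, 9), (18, 8), (17, 5), (16, 4), (15, 3), (14, 0),
    (45, 2), (44, 3), (43, 4), (42, 9), (41, 8), (40, 5), (39, 4), (38, 3), (37, 6), (36, 5), (35, 4), (34, 2),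
    (33, 3), (32, 8), (31, 4), (30, 5), (29, 9), (28, 8), (27, 4), (26, 6), (25, 5), (24, 3), (23, 4), (22, 8),
    (21, 2), (20, 3), (19, 4), (18, 9), (17, 8), (16, 5), (15, 4), (14, 3), (13, 0), (45, 6), (44, 2), (43, 3),
    (42, 4), (41, 9), (40, 8), (39, 5), (38, 4), (37, 3), (36, 6), (35, 5), (34, 4), (33, 2), (32, 3), (31, 8),
    (30, 4), (29, 5), (28, 9), (27, 8), (26, 4), (25, 6), (24, 5), (23, 3), (22, 4), (21, 8), (20, 2), (19, 3),
    (18, 4), (17, 9), (16, 8), (15, 5), (14, 4), (13, 3), (12, 0), (43, 2), (42, 3), (41, 4), (40, 9), (39, 8),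
    (38, 5), (37, 4), (36, 3), (35, 6), (34, 5), (33, 4), (32, 2), (31, 3), (30, 8), (29, 4), (28, 5), (27, 9),
    (26, 8), (25, 4), (24, 6), (23, 5), (22, 3), (21, 4), (20, 8), (19, 2), (18, 3), (17, 4), (16, 9), (15, 8),
    (14, 5), (13, 4), (12, 3), (11, 6), (10, 5), (9, 4), (8, 2), (7, 3), (6, 4), (5, 0), (43, 8), (42, 2),
    (41, 3), (40, 4), (39, 9), (38, 8), (37, 5), (36, 4), (35, 3), (34, 6), (33, 5), (32, 4), (31, 2), (30, 3),
    (29, 8), (28, 4), (27, 5), (26, 9), (25, 8), (24, 4), (23, 6), (22, 5), (21, 3), (20, 4), (19, 8), (18, 2),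
    (17, 3), (16, 4), (15, 9), (14, 8), (13, 5), (12, 4), (11, 3), (10, 6), (9, 5), (8, 4), (7, 2), (6, 3),
    (5, 0), (45, 2), (44, 3), (43, 4), (42, 8), (41, 2), (40, 3), (39, 4), (38, 9), (37, 8), (36, 5), (35, 4),
    (34, 3), (33, 6), (32, 5), (31, 4), (30, 2), (29, 3), (28, 8), (27, 4), (26, 5), (25, 9), (24, 8), (23, 4),
    (22, 6), (21, 5), (20, 3), (19, 4), (18, 8), (17, 2), (16, 3), (15, 4), (14, 9), (13, 8), (12, 5), (11, 4),
    (10, 3), (9, 6), (8, 5), (7, 4), (6, 2), (5, 3), (4, 8), (3, 4), (2, 0), (43, 3), (42, 4), (41, 8),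
    (40, 2), (39, 3), (38, 4), (37, 9), (36, 8), (35, 5), (34, 4), (33, 3), (32, 6), (31, 5), (30, 4), (29, 2),
    (28, 3), (27, 8), (26, 4), (25, 5), (24, 9), (23, 8), (22, 4), (21, 6), (20, 5), (19, 3), (18, 4), (17, 8),
    (16, 2), (15, 3), (14, 4), (13, 9), (12, 8), (11, 5), (10, 4), (9, 3), (8, 6), (7, 5), (6, 4), (5, 2),
    (4, 3), (3, 8), (2, 4), (1, 5), (0, 0), (87, 4), (86, 2), (85, 3), (84, 4), (83, 9), (82, 8), (81, 4),
    (80, 6), (79, 5), (78, 4), (77, 2), (76, 3), (75, 4), (74, 9), (73, 8), (72, 4), (71, 6), (70, 5), (69, 4),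
    (68, 2), (67, 3), (66, 4), (65, 9), (64, 8), (63, 4), (62, 6), (61, 5), (60, 4), (59, 2), (58, 3), (57, 4),
    (56, 9), (55, 8), (54, 4), (53, 6), (52, 5), (51, 4), (50, 2), (49, 3), (48, 4), (47, 9), (46, 8), (45, 4),
    (44, 6), (43, 0), (87, 6), (86, 0), (85, 2), (84, 3), (83, 4), (82, 9), (81, 8), (80, 4), (79, 0), (85, 8),
    (84, 2), (83, 3), (82, 4), (81, 9), (80, 8), (79, 0), (47, 4), (46, 9), (45, 8), (44, 4), (43, 6), (42, 3),
    (41, 4), (40, 0), (47, 2), (46, 0), (45, 9), (44, 8), (43, 4), (42, 6), (41, 3), (40, 4), (39, 2), (38, 3),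
    (37, 0), (81, 2), (80, 3), (79, 4), (78, 8), (77, 2), (76, 3), (75, 4), (74, 9), (73, 8), (72, 5), (71, 4),
    (70, 0), (79, 3), (78, 4), (77, 8), (76, 2), (75, 3), (74, 4), (73, 9), (72, 8), (71, 5), (70, 4), (69, 3),
    (68, 4), (67, 0), (49, 9), (48, 8), (47, 4), (46, 6), (45, 5), (44, 9), (43, 8), (42, 4), (41, 6), (40, 3),
    (39, 4), (38, 2), (37, 3), (36, 0), (81, 9), (80, 8), (79, 4), (78, 6), (77, 5), (76, 3), (75, 4), (74, 8),
    (73, 2), (72, 3), (71, 4), (70, 9), (69, 8), (68, 5), (67, 4), (66, 3), (65, 0), (80, 9), (79, 8), (78, 4),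
    (77, 6), (76, 5), (75, 3), (74, 4), (73, 8), (72, 2), (71, 3), (70, 4), (69, 9), (68, 8), (67, 5), (66, 4),
    (65, 3), (64, 0), (80, 2), (79, 9), (78, 8), (77, 4), (76, 6), (75, 5), (74, 3), (73, 4), (72, 8), (71, 2),
    (70, 3), (69, 4), (68, 9), (67, 8), (66, 5), (65, 4), (64, 3), (63, 0), (48, 9), (47, 8), (46, 4), (45, 6),
    (44, 5), (43, 9), (42, 8), (41, 4), (40, 6), (39, 3), (38, 4), (37, 2), (36, 3), (35, 8), (34, 5), (33, 4),
    (32, 3), (31, 6), (30, 5), (29, 4), (28, 2), (27, 0), (54, 9), (53, 8), (52, 4), (51, 6), (50, 5), (49, 4),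
    (48, 2), (47, 9), (46, 8), (45, 4), (44, 6), (43, 5), (42, 9), (41, 0), (52, 8), (51, 4), (50, 6), (49, 5),
    (48, 4), (47, 2), (46, 9), (45, 8), (44, 4), (43, 6), (42, 5), (41, 9), (40, 4), (39, 0), (42, 6), (41, 5),
    (40, 9), (39, 4), (38, 3), (37, 4), (36, 2), (35, 3), (34, 8), (33, 5), (32, 4), (31, 3), (30, 6), (29, 5),
    (28, 4), (27, 2), (26, 8), (25, 4), (24, 0), (76, 9), (75, 8), (74, 4), (73, 6), (72, 5), (71, 2), (70, 9),
    (69, 8), (68, 4), (67, 6), (66, 5), (65, 3), (64, 4), (63, 8), (62, 2), (61, 3), (60, 4), (59, 9), (58, 8),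
    (57, 5), (56, 4), (55, 3), (54, 6), (53, 5), (52, 4), (51, 2), (50, 3), (49, 8), (48, 4), (47, 0), (74, 8),
    (73, 4), (72, 6), (71, 5), (70, 2), (69, 9), (68, 8), (67, 4), (66, 6), (65, 5), (64, 3), (63, 4), (62, 8),
    (61, 2), (60, 3), (59, 4), (58, 9), (57, 8), (56, 5), (55, 4), (54, 3), (53, 6), (52, 5), (51, 4), (50, 2),
    (49, 3), (48, 8), (47, 4), (46, 5), (45, 4), (44, 0), (78, 6), (77, 5), (76, 4), (75, 2), (74, 3), (73, 8),
    (72, 4), (71, 6), (70, 5), (69, 2), (68, 9), (67, 8), (66, 4), (65, 6), (64, 5), (63, 3), (62, 4), (61, 8),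
    (60, 2), (59, 3), (58, 4), (57, 9), (56, 8), (55, 5), (54, 4), (53, 3), (52, 6), (51, 5), (50, 4), (49, 2),
    (48, 3), (47, 8), (46, 4), (45, 5), (44, 4), (43, 9), (42, 8), (41, 6), (40, 5), (39, 0), (116, 4), (115, 9),
    (114, 8), (113, 4), (112, 6), (111, 5), (110, 4), (109, 2), (108, 3), (107, 4), (106, 9), (105, 8), (104, 4), (103, 6),
    (102, 5), (101, 4), (100, 2), (99, 3), (98, 4), (97, 9), (96, 8), (95, 4), (94, 6), (93, 5), (92, 4), (91, 2),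
    (90, 3), (89, 4), (88, 9), (87, 8), (86, 4), (85, 6), (84, 5), (83, 4), (82, 2), (81, 3), (80, 4), (79, 9),
    (78, 8), (77, 6), (76, 5), (75, 4), (74, 2), (73, 0), (116, 2), (115, 0), (72, 8), (71, 4), (70, 6), (69, 5),
    (68, 0), (74, 6), (73, 5), (72, 4), (71, 8), (70, 0), (110, 9), (109, 8), (108, 4), (107, 6), (106, 5), (105, 4),
    (104, 0), (110, 5), (109, 9), (108, 8), (107, 4), (106, 6), (105, 5), (104, 0), (73, 6), (72, 5), (71, 4), (70, 8),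
    (69, 6), (68, 5), (67, 9), (66, 0), (72, 6), (71, 5), (70, 4), (69, 8), (68, 6), (67, 5), (66, 9), (65, 4),
    (64, 0), (76, 6), (75, 5), (74, 4), (73, 2), (72, 3), (71, 6), (70, 5), (69, 4), (68, 8), (67, 0), (106, 9),
    (105, 8), (104, 4), (103, 5), (102, 9), (101, 8), (100, 4), (99, 6), (98, 5), (97, 3), (96, 4), (95, 0), (104, 8),
    (103, 4), (102, 5), (101, 9), (100, 8), (99, 4), (98, 6), (97, 5), (96, 3), (95, 4), (94, 8), (93, 4), (92, 0),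
    (108, 6), (107, 5), (106, 4), (105, 2), (104, 3), (103, 8), (102, 4), (101, 5), (100, 9), (99, 8), (98, 4), (97, 6),
    (96, 5), (95, 3), (94, 4), (93, 8), (92, 0), (107, 6), (106, 5), (105, 4), (104, 2), (103, 3), (102, 8), (101, 4),
    (100, 5), (99, 9), (98, 8), (97, 4), (96, 6), (95, 5), (94, 3), (93, 4), (92, 8), (91, 0), (107, 9), (106, 6),
    (105, 5), (104, 4), (103, 2), (102, 3), (101, 8), (100, 4), (99, 5), (98, 9), (97, 8), (96, 4), (95, 6), (94, 5),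
    (93, 3), (92, 4), (91, 8), (90, 0), (75, 6), (74, 5), (73, 4), (72, 2), (71, 3), (70, 6), (69, 5), (68, 4),
    (67, 8), (66, 5), (65, 9), (64, 4), (63, 5), (62, 3), (61, 4), (60, 8), (59, 2), (58, 3), (57, 4), (56, 0),
    (81, 6), (80, 5), (79, 4), (78, 2), (77, 3), (76, 4), (75, 9), (74, 6), (73, 5), (72, 4), (71, 2), (70, 3),
    (69, 6), (68, 0), (59, 8), (58, 2), (57, 3), (56, 4), (55, 8), (54, 5), (53, 4), (52, 3), (51, 6), (50, 5),
    (49, 4), (48, 2), (47, 3), (46, 8), (45, 4), (44, 5), (43, 4), (42, 9), (41, 8), (40, 6), (39, 0), (77, 5),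
    (76, 4), (75, 2), (74, 3), (73, 4), (72, 9), (71, 6), (70, 5), (69, 4), (68, 2), (67, 3), (66, 6), (65, 4),
    (64, 8), (63, 5), (62, 9), (61, 4), (60, 5), (59, 3), (58, 8), (57, 2), (56, 0), (67, 2), (66, 3), (65, 6),
    (64, 4), (63, 8), (62, 5), (61, 9), (60, 4), (59, 5), (58, 3), (57, 8), (56, 2), (55, 4), (54, 8), (53, 5),
    (52, 0), (52, 5), (51, 3), (50, 6), (49, 5), (48, 4), (47, 2), (46, 3), (45, 8), (44, 4), (43, 5), (42, 4),
    (41, 9), (40, 8), (39, 6), (38, 4), (37, 3), (36, 4), (35, 2), (34, 3), (33, 0), (99, 6), (98, 5), (97, 4),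
    (96, 2), (95, 3), (94, 9), (93, 6), (92, 5), (91, 4), (90, 2), (89, 3), (88, 8), (87, 4), (86, 5), (85, 9),
    (84, 8), (83, 4), (82, 6), (81, 5), (80, 3), (79, 4), (78, 8), (77, 2), (76, 3), (75, 4), (74, 9), (73, 8),
    (72, 5), (71, 4), (70, 0), (97, 5), (96, 4), (95, 2), (94, 3), (93, 9), (92, 6), (91, 5), (90, 4), (89, 2),
    (88, 3), (87, 8), (86, 4), (85, 5), (84, 9), (83, 8), (82, 4), (81, 6), (80, 5), (79, 3), (78, 4), (77, 8),
    (76, 2), (75, 3), (74, 4), (73, 9), (72, 8), (71, 5), (70, 4), (69, 3), (68, 4), (67, 0), (65, 5), (64, 2),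
    (63, 3), (62, 6), (61, 4), (60, 8), (59, 5), (58, 9), (57, 4), (56, 5), (55, 3), (54, 8), (53, 2), (52, 4),
    (51, 5), (50, 3), (49, 6), (48, 5), (47, 4), (46, 2), (45, 3), (44, 8), (43, 4), (42, 5), (41, 4), (40, 9),
    (39, 8), (38, 6), (37, 4), (36, 3), (35, 4), (34, 2), (33, 3), (32, 5), (31, 4), (30, 3), (29, 6), (28, 5),
    (27, 0), (99, 2), (98, 3), (97, 4), (96, 9), (95, 8), (94, 5), (93, 4), (92, 2), (91, 3), (90, 9), (89, 6),
    (88, 5), (87, 4), (86, 2), (85, 3), (84, 8), (83, 4), (82, 5), (81, 9), (80, 8), (79, 4), (78, 6), (77, 5),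
    (76, 3), (75, 4), (74, 8), (73, 2), (72, 3), (71, 4), (70, 9), (69, 8), (68, 5), (67, 4), (66, 3), (65, 4),
    (64, 0), (65, 3), (64, 4), (63, 2), (62, 3), (61, 6), (60, 4), (59, 8), (58, 5), (57, 9), (56, 4), (55, 5),
    (54, 3), (53, 8), (52, 2), (51, 4), (50, 5), (49, 3), (48, 6), (47, 5), (46, 4), (45, 2), (44, 3), (43, 8),
    (42, 4), (41, 5), (40, 4), (39, 9), (38, 8), (37, 6), (36, 4), (35, 3), (34, 4), (33, 2), (32, 3), (31, 5),
    (30, 4), (29, 3), (28, 6), (27, 5), (26, 0), (76, 4), (75, 6), (74, 5), (73, 3), (72, 4), (71, 8), (70, 2),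
    (69, 3), (68, 4), (67, 9), (66, 8), (65, 5), (64, 3), (63, 4), (62, 2), (61, 3), (60, 6), (59, 4), (58, 8),
    (57, 5), (56, 9), (55, 4), (54, 5), (53, 3), (52, 8), (51, 2), (50, 4), (49, 5), (48, 3), (47, 6), (46, 5),
    (45, 4), (44, 2), (43, 3), (42, 8), (41, 0), (52, 3), (51, 8), (50, 2), (49, 4), (48, 5), (47, 3), (46, 6),
    (45, 5), (44, 4), (43, 2), (42, 3), (41, 8), (40, 5), (39, 4), (38, 9), (37, 8), (36, 6), (35, 4), (34, 3),
    (33, 4), (32, 2), (31, 3), (30, 5), (29, 4), (28, 3), (27, 6), (26, 5), (25, 8), (24, 4), (23, 9), (22, 8),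
    (21, 4), (20, 6), (19, 5), (18, 3), (17, 4), (16, 0), (49, 2), (48, 4), (47, 5), (46, 3), (45, 6), (44, 5),
    (43, 4), (42, 2), (41, 3), (40, 8), (39, 5), (38, 4), (37, 9), (36, 8), (35, 6), (34, 4), (33, 3), (32, 4),
    (31, 2), (30, 3), (29, 5), (28, 4), (27, 3), (26, 6), (25, 5), (24, 8), (23, 4), (22, 9), (21, 8), (20, 4),
    (19, 6), (18, 5), (17, 3), (16, 4), (15, 2), (14, 3), (13, 4), (12, 9), (11, 8), (10, 5), (9, 4), (8, 3),
    (7, 6), (6, 0), (49, 3), (48, 2), (47, 4), (46, 5), (45, 3), (44, 6), (43, 5), (42, 4), (41, 0), (55, 2),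
    (54, 3), (53, 6), (52, 4), (51, 8), (50, 5), (49, 9), (48, 0), (54, 2), (53, 3), (52, 6), (51, 4), (50, 8),
    (49, 5), (48, 9), (47, 0), (14, 2), (13, 3), (12, 4), (11, 9), (10, 8), (9, 5), (8, 4), (7, 3), (6, 6),
    (5, 0), (52, 5), (51, 2), (50, 3), (49, 6), (48, 4), (47, 8), (46, 5), (45, 9), (44, 4), (43, 0), (47, 4),
    (46, 8), (45, 5), (44, 9), (43, 4), (42, 3), (41, 6), (40, 5), (39, 4), (38, 0), (52, 3), (51, 4), (50, 9),
    (49, 5), (48, 2), (47, 3), (46, 4), (45, 8), (44, 0), (13, 2), (12, 3), (11, 4), (10, 9), (9, 8), (8, 5),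
    (7, 4), (6, 3), (5, 6), (4, 2), (3, 0), (12, 2), (11, 3), (10, 4), (9, 9), (8, 8), (7, 5), (6, 4),
    (5, 3), (4, 6), (3, 2), (2, 0), (12, 6), (11, 2), (10, 3), (9, 4), (8, 9), (7, 8), (6, 5), (5, 4),
    (4, 3), (3, 6), (2, 2), (1, 0), (36, 4), (35, 3), (34, 6), (33, 5), (32, 4), (31, 8), (30, 5), (29, 4),
    (28, 9), (27, 8), (26, 6), (25, 0), (37, 4), (36, 8), (35, 4), (34, 3), (33, 6), (32, 5), (31, 4), (30, 8),
    (29, 5), (28, 0), (27, 9), (26, 8), (25, 6), (24, 3), (23, 4), (22, 2), (21, 3), (20, 5), (19, 4), (18, 3),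
    (17, 6), (16, 5), (15, 8), (14, 4), (13, 9), (12, 8), (11, 6), (10, 2), (9, 3), (8, 4), (7, 0), (44, 6),
    (43, 5), (42, 3), (41, 4), (40, 8), (39, 3), (38, 4), (37, 9), (36, 5), (35, 2), (34, 4), (33, 8), (32, 4),
    (31, 3), (30, 6), (29, 5), (28, 4), (27, 8), (26, 9), (25, 0), (43, 6), (42, 5), (41, 3), (40, 4), (39, 8),
    (38, 3), (37, 4), (36, 9), (35, 5), (34, 2), (33, 4), (32, 8), (31, 4), (30, 3), (29, 6), (28, 5), (27, 4),
    (26, 8), (25, 9), (24, 0), (42, 6), (41, 5), (40, 3), (39, 4), (38, 8), (37, 3), (36, 4), (35, 9), (34, 5),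
    (33, 2), (32, 4), (31, 8), (30, 4), (29, 3), (28, 6), (27, 5), (26, 4), (25, 8), (24, 9), (23, 3), (22, 0),
    (43, 8), (42, 4), (41, 6), (40, 5), (39, 3), (38, 4), (37, 8), (36, 3), (35, 4), (34, 9), (33, 5), (32, 2),
    (31, 0), (45, 5), (44, 4), (43, 2), (42, 8), (41, 4), (40, 6), (39, 5), (38, 3), (37, 4), (36, 8), (35, 3),
    (34, 0), (21, 2), (20, 3), (19, 5), (18, 4), (17, 3), (16, 6), (15, 5), (14, 8), (13, 4), (12, 9), (11, 8),
    (10, 6), (9, 2), (8, 3), (7, 4), (6, 0), (31, 9), (30, 5), (29, 2), (28, 8), (27, 4), (26, 3), (25, 6),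
    (24, 5), (23, 4), (22, 8), (21, 9), (20, 2), (19, 3), (18, 5), (17, 4), (16, 3), (15, 6), (14, 5), (13, 8),
    (12, 4), (11, 0), (57, 3), (56, 4), (55, 9), (54, 8), (53, 4), (52, 6), (51, 5), (50, 2), (49, 3), (48, 4),
    (47, 9), (46, 8), (45, 5), (44, 4), (43, 2), (42, 3), (41, 9), (40, 5), (39, 4), (38, 2), (37, 8), (36, 0),
    (43, 4), (42, 2), (41, 3), (40, 9), (39, 5), (38, 4), (37, 2), (36, 8), (35, 6), (34, 5), (33, 3), (32, 4),
    (31, 8), (30, 9), (29, 5), (28, 0), (51, 8), (50, 4), (49, 6), (48, 5), (47, 2), (46, 3), (45, 4), (44, 9),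
    (43, 8), (42, 4), (41, 2), (40, 3), (39, 9), (38, 5), (37, 4), (36, 2), (35, 8), (34, 6), (33, 5), (32, 3),
    (31, 4), (30, 8), (29, 9), (28, 5), (27, 8), (26, 0), (58, 9), (57, 8), (56, 4), (55, 6), (54, 5), (53, 4),
    (52, 3), (51, 4), (50, 8), (49, 4), (48, 6), (47, 5), (46, 2), (45, 3), (44, 4), (43, 9), (42, 8), (41, 4),
    (40, 0), (25, 3), (24, 6), (23, 5), (22, 4), (21, 8), (20, 9), (19, 2), (18, 3), (17, 5), (16, 4), (15, 3),
    (14, 6), (13, 5), (12, 8), (11, 4), (10, 8), (9, 6), (8, 2), (7, 3), (6, 4), (5, 5), (4, 4), (3, 0),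
    (50, 4), (49, 3), (48, 4), (47, 8), (46, 4), (45, 6), (44, 5), (43, 2), (42, 3), (41, 4), (40, 9), (39, 8),
    (38, 4), (37, 3), (36, 9), (35, 5), (34, 4), (33, 2), (32, 8), (31, 6), (30, 5), (29, 3), (28, 4), (27, 8),
    (26, 9), (25, 5), (24, 3), (23, 6), (22, 5), (21, 4), (20, 8), (19, 9), (18, 2), (17, 3), (16, 5), (15, 0),
    (15, 5), (14, 0), (48, 6), (47, 0), (49, 9), (48, 8), (47, 6), (46, 0), (45, 4), (44, 8), (43, 4), (42, 0),
    (44, 4), (43, 8), (42, 0), (45, 2), (44, 9), (43, 0), (43, 9), (42, 8), (41, 5), (40, 0), (42, 9), (41, 8),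
    (40, 0), (13, 6), (12, 5), (11, 8), (10, 4), (9, 8), (8, 0), (12, 6), (11, 5), (10, 8), (9, 4), (8, 8),
    (7, 0), (36, 8), (35, 3), (34, 4), (33, 9), (32, 8), (31, 0), (39, 9), (38, 8), (37, 4), (36, 6), (35, 0),
    (35, 6), (34, 3), (33, 4), (32, 9), (31, 8), (30, 0), (36, 9), (35, 8), (34, 6), (33, 0), (17, 3), (16, 6),
    (15, 5), (14, 4), (13, 8), (12, 9), (11, 0), (16, 3), (15, 6), (14, 5), (13, 4), (12, 8), (11, 9), (10, 5),
    (9, 0), (32, 2), (31, 9), (30, 8), (29, 6), (28, 4), (27, 9), (26, 8), (25, 0), (30, 9), (29, 8), (28, 6),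
    (27, 4), (26, 9), (25, 8), (24, 5), (23, 4), (22, 0), (17, 4), (16, 8), (15, 3), (14, 6), (13, 5), (12, 4),
    (11, 8), (10, 9), (9, 5), (8, 0), (7, 8), (6, 3), (5, 4), (4, 5), (3, 0), (22, 4), (21, 9), (20, 8),
    (19, 5), (18, 4), (17, 8), (16, 6), (15, 5), (14, 4), (13, 0), (23, 9), (22, 8), (21, 4), (20, 9), (19, 8),
    (18, 5), (17, 4), (16, 0), (25, 8), (24, 4), (23, 6), (22, 9), (21, 8), (20, 0), (20, 8), (19, 9), (18, 0),
    (22, 8), (21, 4), (20, 6), (19, 0), (18, 9), (17, 5), (16, 4), (15, 6), (14, 5), (13, 0), (13, 5), (12, 3),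
    (11, 6), (10, 0), (15, 9), (14, 5), (13, 4), (12, 0), (11, 3), (10, 6), (9, 4), (8, 8), (7, 9), (6, 8),
    (5, 0), (13, 8), (12, 9), (11, 5), (10, 0), (10, 5), (9, 6), (8, 4), (7, 8), (6, 9), (5, 0), (9, 5),
    (8, 6), (7, 4), (6, 8), (5, 9), (4, 0), (10, 4), (9, 2), (8, 5), (7, 6), (6, 0), (10, 6), (9, 0),
    (6, 6), (5, 8), (4, 9), (3, 5), (2, 0), (1, 2), (0, 0), (4, 2), (3, 0), (3, 2), (2, 0), (1, 9),
    (0, 0), (0, 0)]

/-- The square of the second extra relator. -/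
def progLeft : List (Nat × Nat) :=
  [(62, 8), (61, 6), (60, 5), (59, 4), (58, 3), (57, 2), (56, 1), (55, 8), (54, 6), (53, 5), (52, 4), (51, 3),
    (50, 2), (49, 1), (48, 8), (47, 6), (46, 5), (45, 4), (44, 3), (43, 2), (42, 1), (41, 8), (40, 6), (39, 5),
    (38, 4), (37, 3), (36, 2), (35, 1), (34, 8), (33, 6), (32, 5), (31, 4), (30, 3), (29, 2), (28, 1), (27, 8),
    (26, 6), (25, 5), (24, 4), (23, 3), (22, 2), (21, 1), (20, 8), (19, 6), (18, 5), (17, 4), (16, 3), (15, 2),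
    (14, 1), (13, 8), (12, 6), (11, 5), (10, 4), (9, 3), (8, 2), (7, 1), (6, 8), (5, 6), (4, 5), (3, 4),
    (2, 3), (1, 2), (0, 0), (65, 5), (64, 4), (63, 3), (62, 2), (61, 8), (60, 6), (59, 5), (58, 4), (57, 3),
    (56, 2), (55, 1), (54, 8), (53, 6), (52, 5), (51, 4), (50, 3), (49, 2), (48, 1), (47, 8), (46, 6), (45, 5),
    (44, 4), (43, 3), (42, 2), (41, 1), (40, 8), (39, 6), (38, 5), (37, 4), (36, 3), (35, 2), (34, 0), (37, 5),
    (36, 4), (35, 3), (34, 2), (33, 8), (32, 6), (31, 5), (30, 4), (29, 3), (28, 2), (27, 1), (26, 8), (25, 6),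
    (24, 5), (23, 4), (22, 3), (21, 2), (20, 1), (19, 8), (18, 6), (17, 5), (16, 4), (15, 3), (14, 2), (13, 1),
    (12, 8), (11, 6), (10, 5), (9, 4), (8, 3), (7, 2), (6, 0), (62, 5), (61, 4), (60, 3), (59, 2), (58, 8),
    (57, 6), (56, 5), (55, 4), (54, 3), (53, 2), (52, 1), (51, 8), (50, 6), (49, 5), (48, 4), (47, 3), (46, 2),
    (45, 1), (44, 8), (43, 6), (42, 5), (41, 4), (40, 3), (39, 2), (38, 1), (37, 8), (36, 5), (35, 4), (34, 3),
    (33, 0), (74, 6), (73, 5), (72, 4), (71, 3), (70, 2), (69, 1), (68, 8), (67, 6), (66, 5), (65, 4), (64, 3),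
    (63, 2), (62, 1), (61, 5), (60, 4), (59, 3), (58, 0), (78, 5), (77, 4), (76, 3), (75, 2), (74, 1), (73, 6),
    (72, 5), (71, 4), (70, 3), (69, 2), (68, 0), (35, 5), (34, 4), (33, 3), (32, 8), (31, 6), (30, 5), (29, 4),
    (28, 3), (27, 2), (26, 1), (25, 8), (24, 6), (23, 5), (22, 4), (21, 3), (20, 2), (19, 1), (18, 8), (17, 6),
    (16, 5), (15, 4), (14, 3), (13, 2), (12, 0), (53, 5), (52, 4), (51, 3), (50, 2), (49, 1), (48, 8), (47, 6),
    (46, 5), (45, 4), (44, 3), (43, 2), (42, 1), (41, 8), (40, 6), (39, 5), (38, 4), (37, 3), (36, 2), (35, 1),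
    (34, 5), (33, 4), (32, 0), (32, 4), (31, 8), (30, 6), (29, 5), (28, 4), (27, 3), (26, 2), (25, 1), (24, 8),
    (23, 6), (22, 5), (21, 4), (20, 3), (19, 2), (18, 0), (62, 2), (61, 8), (60, 6), (59, 5), (58, 4), (57, 3),
    (56, 2), (55, 1), (54, 5), (53, 4), (52, 3), (51, 8), (50, 5), (49, 4), (48, 3), (47, 2), (46, 1), (45, 0),
    (70, 8), (69, 5), (68, 4), (67, 3), (66, 2), (65, 1), (64, 6), (63, 5), (62, 4), (61, 0), (50, 8), (49, 5),
    (48, 4), (47, 3), (46, 2), (45, 1), (44, 6), (43, 5), (42, 4), (41, 3), (40, 2), (39, 1), (38, 8), (37, 6),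
    (36, 5), (35, 4), (34, 3), (33, 2), (32, 1), (31, 4), (30, 8), (29, 0), (51, 5), (50, 4), (49, 8), (48, 5),
    (47, 4), (46, 3), (45, 2), (44, 1), (43, 6), (42, 5), (41, 4), (40, 3), (39, 2), (38, 1), (37, 8), (36, 6),
    (35, 5), (34, 4), (33, 3), (32, 2), (31, 1), (30, 0), (65, 8), (64, 5), (63, 4), (62, 3), (61, 2), (60, 1),
    (59, 6), (58, 5), (57, 4), (56, 8), (55, 6), (54, 5), (53, 4), (52, 3), (51, 2), (50, 5), (49, 4), (48, 8),
    (47, 5), (46, 4), (45, 3), (44, 0), (68, 6), (67, 5), (66, 4), (65, 3), (64, 8), (63, 5), (62, 4), (61, 3),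
    (60, 2), (59, 1), (58, 6), (57, 5), (56, 4), (55, 8), (54, 6), (53, 0), (45, 4), (44, 3), (43, 1), (42, 6),
    (41, 5), (40, 4), (39, 3), (38, 2), (37, 1), (36, 8), (35, 6), (34, 5), (33, 4), (32, 3), (31, 2), (30, 1),
    (29, 0), (32, 4), (31, 3), (30, 2), (29, 1), (28, 5), (27, 4), (26, 3), (25, 2), (24, 0), (50, 8), (49, 6),
    (48, 4), (47, 3), (46, 2), (45, 5), (44, 4), (43, 8), (42, 0), (41, 3), (40, 1), (39, 6), (38, 5), (37, 4),
    (36, 3), (35, 2), (34, 1), (33, 8), (32, 6), (31, 4), (30, 3), (29, 2), (28, 0), (45, 4), (44, 3), (43, 2),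
    (42, 5), (41, 4), (40, 3), (39, 1), (38, 6), (37, 5), (36, 4), (35, 0), (45, 8), (44, 4), (43, 3), (42, 2),
    (41, 5), (40, 4), (39, 3), (38, 1), (37, 6), (36, 5), (35, 4), (34, 2), (33, 0), (53, 4), (52, 3), (51, 8),
    (50, 5), (49, 4), (48, 3), (47, 2), (46, 1), (45, 6), (44, 8), (43, 0), (46, 2), (45, 1), (44, 6), (43, 8),
    (42, 3), (41, 2), (40, 5), (39, 4), (38, 3), (37, 0), (54, 3), (53, 2), (52, 1), (51, 6), (50, 4), (49, 3),
    (48, 8), (47, 5), (46, 4), (45, 2), (44, 0), (58, 2), (57, 1), (56, 8), (55, 6), (54, 5), (53, 3), (52, 2),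
    (51, 0), (62, 1), (61, 8), (60, 6), (59, 5), (58, 4), (57, 2), (56, 0), (66, 8), (65, 6), (64, 5), (63, 4),
    (62, 3), (61, 0), (35, 5), (34, 4), (33, 2), (32, 8), (31, 6), (30, 4), (29, 3), (28, 2), (27, 5), (26, 4),
    (25, 3), (24, 2), (23, 8), (22, 6), (21, 5), (20, 4), (19, 3), (18, 2), (17, 8), (16, 6), (15, 5), (14, 4),
    (13, 3), (12, 2), (11, 8), (10, 6), (9, 5), (8, 4), (7, 3), (6, 0), (51, 5), (50, 3), (49, 2), (48, 6),
    (47, 4), (46, 3), (45, 8), (44, 5), (43, 4), (42, 2), (41, 6), (40, 8), (39, 3), (38, 2), (37, 5), (36, 4),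
    (35, 3), (34, 5), (33, 0), (47, 6), (46, 4), (45, 3), (44, 8), (43, 5), (42, 4), (41, 2), (40, 6), (39, 8),
    (38, 3), (37, 2), (36, 5), (35, 4), (34, 3), (33, 5), (32, 2), (31, 8), (30, 6), (29, 4), (28, 3), (27, 0),
    (31, 2), (30, 8), (29, 6), (28, 4), (27, 3), (26, 5), (25, 4), (24, 3), (23, 2), (22, 8), (21, 6), (20, 5),
    (19, 4), (18, 3), (17, 2), (16, 0), (19, 5), (18, 4), (17, 3), (16, 2), (15, 6), (14, 5), (13, 4), (12, 3),
    (11, 0), (31, 5), (30, 4), (29, 3), (28, 2), (27, 8), (26, 6), (25, 4), (24, 3), (23, 5), (22, 4), (21, 3),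
    (20, 2), (19, 8), (18, 0), (30, 5), (29, 4), (28, 3), (27, 2), (26, 8), (25, 6), (24, 4), (23, 3), (22, 5),
    (21, 4), (20, 3), (19, 2), (18, 8), (17, 4), (16, 3), (15, 0), (37, 4), (36, 3), (35, 8), (34, 5), (33, 4),
    (32, 2), (31, 6), (30, 8), (29, 5), (28, 4), (27, 3), (26, 2), (25, 0), (29, 8), (28, 5), (27, 4), (26, 3),
    (25, 2), (24, 6), (23, 4), (22, 3), (21, 5), (20, 4), (19, 3), (18, 0), (34, 4), (33, 3), (32, 8), (31, 5),
    (30, 4), (29, 2), (28, 8), (27, 5), (26, 0), (37, 4), (36, 2), (35, 8), (34, 5), (33, 4), (32, 3), (31, 0),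
    (37, 6), (36, 4), (35, 2), (34, 8), (33, 5), (32, 4), (31, 3), (30, 0), (30, 3), (29, 4), (28, 2), (27, 8),
    (26, 5), (25, 3), (24, 0), (35, 3), (34, 6), (33, 4), (32, 2), (31, 8), (30, 5), (29, 3), (28, 4), (27, 0),
    (38, 2), (37, 8), (36, 6), (35, 5), (34, 3), (33, 6), (32, 4), (31, 0), (32, 6), (31, 4), (30, 8), (29, 5),
    (28, 3), (27, 4), (26, 8), (25, 5), (24, 3), (23, 6), (22, 4), (21, 0), (37, 5), (36, 4), (35, 2), (34, 8),
    (33, 6), (32, 5), (31, 6), (30, 4), (29, 0), (31, 5), (30, 6), (29, 4), (28, 5), (27, 3), (26, 4), (25, 8),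
    (24, 5), (23, 0), (22, 6), (21, 4), (20, 5), (19, 4), (18, 3), (17, 8), (16, 4), (15, 3), (14, 6), (13, 5),
    (12, 4), (11, 0), (12, 5), (11, 4), (10, 8), (9, 6), (8, 5), (7, 4), (6, 3), (5, 0), (7, 5), (6, 4),
    (5, 3), (4, 6), (3, 5), (2, 4), (1, 0), (12, 8), (11, 4), (10, 3), (9, 5), (8, 4), (7, 8), (6, 0),
    (11, 8), (10, 4), (9, 3), (8, 5), (7, 4), (6, 8), (5, 0), (14, 8), (13, 6), (12, 4), (11, 5), (10, 0),
    (10, 5), (9, 4), (8, 3), (7, 0), (7, 3), (6, 4), (5, 8), (4, 0), (9, 8), (8, 6), (7, 5), (6, 0),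
    (10, 4), (9, 5), (8, 8), (7, 6), (6, 0), (5, 4), (4, 8), (3, 0), (7, 4), (6, 5), (5, 8), (4, 4),
    (3, 0), (4, 8), (3, 4), (2, 5), (1, 0), (4, 4), (3, 8), (2, 0), (4, 2), (3, 0), (2, 8), (1, 5),
    (0, 0), (1, 8), (0, 0), (0, 0)]

/-- The square of the third extra relator. -/
def progRight : List (Nat × Nat) :=
  [(62, 8), (61, 7), (60, 6), (59, 5), (58, 4), (57, 3), (56, 2), (55, 8), (54, 7), (53, 6), (52, 5), (51, 4),
    (50, 3), (49, 2), (48, 8), (47, 7), (46, 6), (45, 5), (44, 4), (43, 3), (42, 2), (41, 8), (40, 7), (39, 6),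
    (38, 5), (37, 4), (36, 3), (35, 2), (34, 8), (33, 7), (32, 6), (31, 5), (30, 4), (29, 3), (28, 2), (27, 8),
    (26, 7), (25, 6), (24, 5), (23, 4), (22, 3), (21, 2), (20, 8), (19, 7), (18, 6), (17, 5), (16, 4), (15, 3),
    (14, 2), (13, 8), (12, 7), (11, 6), (10, 5), (9, 4), (8, 3), (7, 2), (6, 8), (5, 7), (4, 6), (3, 5),
    (2, 4), (1, 3), (0, 0), (65, 6), (64, 5), (63, 4), (62, 3), (61, 8), (60, 7), (59, 6), (58, 5), (57, 4),
    (56, 3), (55, 2), (54, 8), (53, 7), (52, 6), (51, 5), (50, 4), (49, 3), (48, 2), (47, 8), (46, 7), (45, 6),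
    (44, 5), (43, 4), (42, 3), (41, 2), (40, 8), (39, 7), (38, 6), (37, 5), (36, 4), (35, 3), (34, 2), (33, 8),
    (32, 0), (58, 6), (57, 5), (56, 4), (55, 3), (54, 2), (53, 8), (52, 7), (51, 6), (50, 5), (49, 4), (48, 3),
    (47, 2), (46, 8), (45, 7), (44, 6), (43, 5), (42, 4), (41, 3), (40, 2), (39, 8), (38, 7), (37, 6), (36, 5),
    (35, 4), (34, 3), (33, 2), (32, 8), (31, 6), (30, 5), (29, 4), (28, 3), (27, 0), (82, 6), (81, 5), (80, 4),
    (79, 3), (78, 2), (77, 8), (76, 7), (75, 6), (74, 5), (73, 4), (72, 3), (71, 2), (70, 8), (69, 7), (68, 6),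
    (67, 5), (66, 4), (65, 3), (64, 2), (63, 8), (62, 6), (61, 5), (60, 4), (59, 3), (58, 8), (57, 6), (56, 5),
    (55, 4), (54, 0), (55, 5), (54, 4), (53, 2), (52, 8), (51, 7), (50, 6), (49, 5), (48, 4), (47, 3), (46, 2),
    (45, 8), (44, 7), (43, 6), (42, 5), (41, 4), (40, 3), (39, 0), (72, 6), (71, 5), (70, 4), (69, 3), (68, 2),
    (67, 8), (66, 7), (65, 6), (64, 5), (63, 4), (62, 3), (61, 2), (60, 8), (59, 6), (58, 5), (57, 4), (56, 3),
    (55, 8), (54, 5), (53, 4), (52, 2), (51, 0), (52, 4), (51, 2), (50, 7), (49, 6), (48, 5), (47, 4), (46, 3),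
    (45, 2), (44, 8), (43, 7), (42, 6), (41, 5), (40, 4), (39, 3), (38, 8), (37, 7), (36, 0), (39, 4), (38, 3),
    (37, 8), (36, 7), (35, 5), (34, 4), (33, 3), (32, 2), (31, 8), (30, 6), (29, 5), (28, 4), (27, 3), (26, 8),
    (25, 7), (24, 6), (23, 5), (22, 4), (21, 3), (20, 2), (19, 8), (18, 7), (17, 6), (16, 5), (15, 4), (14, 3),
    (13, 2), (12, 8), (11, 0), (29, 6), (28, 5), (27, 4), (26, 3), (25, 8), (24, 7), (23, 6), (22, 5), (21, 4),
    (20, 3), (19, 2), (18, 8), (17, 7), (16, 6), (15, 5), (14, 4), (13, 3), (12, 2), (11, 8), (10, 6), (9, 5),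
    (8, 4), (7, 3), (6, 0), (38, 7), (37, 6), (36, 4), (35, 3), (34, 8), (33, 7), (32, 5), (31, 4), (30, 3),
    (29, 2), (28, 6), (27, 5), (26, 4), (25, 3), (24, 8), (23, 7), (22, 6), (21, 5), (20, 4), (19, 3), (18, 2),
    (17, 8), (16, 7), (15, 0), (50, 6), (49, 5), (48, 4), (47, 3), (46, 8), (45, 4), (44, 2), (43, 7), (42, 6),
    (41, 5), (40, 4), (39, 3), (38, 2), (37, 7), (36, 6), (35, 4), (34, 0), (53, 5), (52, 4), (51, 3), (50, 2),
    (49, 6), (48, 5), (47, 4), (46, 3), (45, 8), (44, 4), (43, 0), (44, 8), (43, 4), (42, 7), (41, 6), (40, 5),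
    (39, 4), (38, 3), (37, 2), (36, 7), (35, 6), (34, 4), (33, 8), (32, 7), (31, 5), (30, 4), (29, 3), (28, 2),
    (27, 6), (26, 5), (25, 4), (24, 3), (23, 8), (22, 0), (35, 7), (34, 6), (33, 4), (32, 8), (31, 7), (30, 5),
    (29, 4), (28, 3), (27, 2), (26, 6), (25, 5), (24, 4), (23, 3), (22, 8), (21, 6), (20, 5), (19, 4), (18, 3),
    (17, 2), (16, 8), (15, 7), (14, 5), (13, 4), (12, 3), (11, 0), (41, 8), (40, 4), (39, 7), (38, 6), (37, 5),
    (36, 4), (35, 3), (34, 7), (33, 6), (32, 4), (31, 8), (30, 7), (29, 5), (28, 4), (27, 3), (26, 2), (25, 6),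
    (24, 5), (23, 4), (22, 3), (21, 8), (20, 6), (19, 0), (46, 5), (45, 4), (44, 3), (43, 2), (42, 6), (41, 5),
    (40, 8), (39, 4), (38, 7), (37, 6), (36, 5), (35, 0), (35, 5), (34, 3), (33, 7), (32, 6), (31, 4), (30, 8),
    (29, 7), (28, 5), (27, 4), (26, 3), (25, 2), (24, 6), (23, 5), (22, 4), (21, 3), (20, 8), (19, 6), (18, 4),
    (17, 3), (16, 0), (34, 5), (33, 3), (32, 0), (45, 4), (44, 3), (43, 2), (42, 8), (41, 5), (40, 4), (39, 3),
    (38, 2), (37, 6), (36, 5), (35, 8), (34, 4), (33, 5), (32, 3), (31, 6), (30, 0), (51, 6), (50, 5), (49, 4),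
    (48, 3), (47, 2), (46, 8), (45, 6), (44, 4), (43, 3), (42, 0), (54, 5), (53, 4), (52, 3), (51, 2), (50, 6),
    (49, 5), (48, 4), (47, 3), (46, 0), (55, 8), (54, 7), (53, 5), (52, 4), (51, 3), (50, 2), (49, 6), (48, 5),
    (47, 4), (46, 3), (45, 8), (44, 6), (43, 4), (42, 3), (41, 0), (41, 3), (40, 5), (39, 4), (38, 3), (37, 2),
    (36, 6), (35, 5), (34, 8), (33, 4), (32, 5), (31, 3), (30, 6), (29, 8), (28, 7), (27, 5), (26, 4), (25, 0),
    (42, 8), (41, 6), (40, 0), (43, 5), (42, 4), (41, 8), (40, 6), (39, 5), (38, 4), (37, 3), (36, 2), (35, 6),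
    (34, 5), (33, 0), (53, 7), (52, 6), (51, 5), (50, 4), (49, 3), (48, 8), (47, 7), (46, 5), (45, 4), (44, 3),
    (43, 2), (42, 5), (41, 0), (40, 8), (39, 6), (38, 5), (37, 4), (36, 3), (35, 2), (34, 0), (36, 4), (35, 3),
    (34, 2), (33, 5), (32, 4), (31, 5), (30, 3), (29, 6), (28, 8), (27, 7), (26, 5), (25, 4), (24, 0), (42, 7),
    (41, 5), (40, 4), (39, 3), (38, 2), (37, 8), (36, 6), (35, 4), (34, 3), (33, 0), (43, 4), (42, 3), (41, 7),
    (40, 5), (39, 4), (38, 0), (46, 3), (45, 2), (44, 7), (43, 6), (42, 4), (41, 3), (40, 7), (39, 5), (38, 4),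
    (37, 0), (50, 2), (49, 8), (48, 7), (47, 6), (46, 5), (45, 3), (44, 0), (54, 8), (53, 7), (52, 6), (51, 5),
    (50, 4), (49, 0), (46, 6), (45, 5), (44, 3), (43, 7), (42, 6), (41, 4), (40, 3), (39, 7), (38, 5), (37, 4),
    (36, 8), (35, 6), (34, 4), (33, 3), (32, 5), (31, 4), (30, 0), (48, 5), (47, 4), (46, 8), (45, 6), (44, 5),
    (43, 3), (42, 7), (41, 6), (40, 4), (39, 3), (38, 7), (37, 5), (36, 4), (35, 8), (34, 6), (33, 4), (32, 3),
    (31, 5), (30, 4), (29, 3), (28, 0), (31, 3), (30, 5), (29, 4), (28, 3), (27, 8), (26, 7), (25, 5), (24, 4),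
    (23, 6), (22, 5), (21, 4), (20, 3), (19, 8), (18, 6), (17, 4), (16, 0), (23, 4), (22, 6), (21, 5), (20, 4),
    (19, 3), (18, 8), (17, 6), (16, 4), (15, 8), (14, 7), (13, 5), (12, 4), (11, 3), (10, 0), (36, 6), (35, 4),
    (34, 3), (33, 7), (32, 5), (31, 4), (30, 8), (29, 6), (28, 3), (27, 5), (26, 4), (25, 3), (24, 8), (23, 7),
    (22, 0), (23, 8), (22, 7), (21, 6), (20, 5), (19, 4), (18, 3), (17, 8), (16, 6), (15, 4), (14, 0), (35, 5),
    (34, 3), (33, 6), (32, 4), (31, 3), (30, 7), (29, 5), (28, 4), (27, 8), (26, 6), (25, 0), (28, 5), (27, 4),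
    (26, 8), (25, 6), (24, 5), (23, 4), (22, 8), (21, 7), (20, 6), (19, 5), (18, 4), (17, 3), (16, 0), (18, 5),
    (17, 4), (16, 3), (15, 6), (14, 4), (13, 7), (12, 5), (11, 4), (10, 0), (23, 8), (22, 6), (21, 5), (20, 4),
    (19, 8), (18, 7), (17, 5), (16, 0), (25, 4), (24, 3), (23, 5), (22, 8), (21, 6), (20, 0), (16, 5), (15, 3),
    (14, 6), (13, 4), (12, 7), (11, 5), (10, 4), (9, 6), (8, 5), (7, 0), (10, 5), (9, 4), (8, 6), (7, 5),
    (6, 3), (5, 8), (4, 7), (3, 6), (2, 0), (12, 3), (11, 6), (10, 4), (9, 5), (8, 4), (7, 6), (6, 0),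
    (13, 4), (12, 8), (11, 3), (10, 0), (17, 3), (16, 4), (15, 3), (14, 5), (13, 8), (12, 4), (11, 8), (10, 3),
    (9, 0), (20, 7), (19, 5), (18, 4), (17, 8), (16, 3), (15, 4), (14, 0), (21, 4), (20, 3), (19, 7), (18, 5),
    (17, 4), (16, 8), (15, 0), (15, 8), (14, 4), (13, 5), (12, 0), (14, 8), (13, 4), (12, 5), (11, 0), (10, 8),
    (9, 3), (8, 0), (10, 4), (9, 8), (8, 3), (7, 4), (6, 6), (5, 0), (11, 3), (10, 7), (9, 4), (8, 8),
    (7, 0), (7, 8), (6, 4), (5, 6), (4, 0), (4, 6), (3, 7), (2, 6), (1, 0), (4, 8), (3, 6), (2, 7),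
    (1, 0), (4, 3), (3, 8), (2, 0), (2, 8), (1, 7), (0, 0), (1, 8), (0, 0), (0, 0)]

/-- Programs for the relators of the graph. -/
def progPairs : List (List (Nat × Nat)) :=
  [[(0, 0)],
    [(2, 1), (1, 2), (0, 0), (1, 0), (0, 0)],
    [(1, 3), (0, 0), (0, 0)],
    [(1, 4), (0, 0), (0, 0)],
    [(1, 5), (0, 0), (0, 0)],
    [(1, 6), (0, 0), (0, 0)],
    [(1, 7), (0, 0), (0, 0)],
    [(1, 8), (0, 0), (0, 0)],
    [(1, 9), (0, 0), (0, 0)],
    [(2, 2), (1, 1), (0, 0), (1, 0), (0, 0)],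
    [(0, 0)],
    [(2, 2), (1, 3), (0, 0), (1, 0), (0, 0)],
    [(1, 4), (0, 0), (0, 0)],
    [(1, 5), (0, 0), (0, 0)],
    [(1, 6), (0, 0), (0, 0)],
    [(1, 7), (0, 0), (0, 0)],
    [(1, 8), (0, 0), (0, 0)],
    [(1, 9), (0, 0), (0, 0)],
    [(1, 1), (0, 0), (0, 0)],
    [(2, 3), (1, 2), (0, 0), (1, 0), (0, 0)],
    [(0, 0)],
    [(2, 3), (1, 4), (0, 0), (1, 0), (0, 0)],
    [(1, 5), (0, 0), (0, 0)],
    [(1, 6), (0, 0), (0, 0)],
    [(1, 7), (0, 0), (0, 0)],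
    [(1, 8), (0, 0), (0, 0)],
    [(1, 9), (0, 0), (0, 0)],
    [(1, 1), (0, 0), (0, 0)],
    [(1, 2), (0, 0), (0, 0)],
    [(2, 4), (1, 3), (0, 0), (1, 0), (0, 0)],
    [(0, 0)],
    [(2, 4), (1, 5), (0, 0), (1, 0), (0, 0)],
    [(1, 6), (0, 0), (0, 0)],
    [(1, 7), (0, 0), (0, 0)],
    [(2, 4), (1, 8), (0, 0), (1, 0), (0, 0)],
    [(1, 9), (0, 0), (0, 0)],
    [(1, 1), (0, 0), (0, 0)],
    [(1, 2), (0, 0), (0, 0)],
    [(1, 3), (0, 0), (0, 0)],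
    [(2, 5), (1, 4), (0, 0), (1, 0), (0, 0)],
    [(0, 0)],
    [(2, 5), (1, 6), (0, 0), (1, 0), (0, 0)],
    [(1, 7), (0, 0), (0, 0)],
    [(1, 8), (0, 0), (0, 0)],
    [(1, 9), (0, 0), (0, 0)],
    [(1, 1), (0, 0), (0, 0)],
    [(1, 2), (0, 0), (0, 0)],
    [(1, 3), (0, 0), (0, 0)],
    [(1, 4), (0, 0), (0, 0)],
    [(2, 6), (1, 5), (0, 0), (1, 0), (0, 0)],
    [(0, 0)],
    [(2, 6), (1, 7), (0, 0), (1, 0), (0, 0)],
    [(1, 8), (0, 0), (0, 0)],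
    [(1, 9), (0, 0), (0, 0)],
    [(1, 1), (0, 0), (0, 0)],
    [(1, 2), (0, 0), (0, 0)],
    [(1, 3), (0, 0), (0, 0)],
    [(1, 4), (0, 0), (0, 0)],
    [(1, 5), (0, 0), (0, 0)],
    [(2, 7), (1, 6), (0, 0), (1, 0), (0, 0)],
    [(0, 0)],
    [(1, 8), (0, 0), (0, 0)],
    [(1, 9), (0, 0), (0, 0)],
    [(1, 1), (0, 0), (0, 0)],
    [(1, 2), (0, 0), (0, 0)],
    [(1, 3), (0, 0), (0, 0)],
    [(2, 8), (1, 4), (0, 0), (1, 0), (0, 0)],
    [(1, 5), (0, 0), (0, 0)],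
    [(1, 6), (0, 0), (0, 0)],
    [(1, 7), (0, 0), (0, 0)],
    [(0, 0)],
    [(2, 8), (1, 9), (0, 0), (1, 0), (0, 0)],
    [(1, 1), (0, 0), (0, 0)],
    [(1, 2), (0, 0), (0, 0)],
    [(1, 3), (0, 0), (0, 0)],
    [(1, 4), (0, 0), (0, 0)],
    [(1, 5), (0, 0), (0, 0)],
    [(1, 6), (0, 0), (0, 0)],
    [(1, 7), (0, 0), (0, 0)],
    [(2, 9), (1, 8), (0, 0), (1, 0), (0, 0)],
    [(0, 0)]]

/-- The first generator as six conjugates of the third: their words in the generators of the centraliser. -/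
def firstFactors : List (List Nat) :=
  [[2, 3, 4, 5, 8, 4, 3, 2, 7, 6, 2, 8],
    [2, 3, 4, 5, 8, 4, 3, 2, 7, 6, 2, 1],
    [2, 3, 4, 6, 2, 3, 7, 6, 8, 4],
    [2, 3, 4, 5, 6, 7, 8, 4, 3, 2, 5, 6, 7, 8],
    [2, 3, 4, 6, 2, 3, 7, 6, 8, 7],
    [2, 3, 4, 5, 6, 7, 8, 4, 3, 2, 1, 5, 6, 7]]

/-- The identity as seven conjugates of the third: their words in the generators of the centraliser. -/
def oneFactors : List (List Nat) :=
  [[2, 3, 4, 5, 8, 4, 3, 2, 7, 6, 2, 8],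
    [2, 3, 4, 5, 8, 4, 3, 2, 7, 6, 2, 1],
    [2, 3, 4, 6, 2, 3, 7, 6, 8, 4],
    [2, 3, 4, 5, 8, 4, 3, 7, 6, 2, 3, 8],
    [2, 3, 4, 5, 6, 8, 4, 7, 6, 2, 3, 4, 8, 7],
    [2, 3, 4, 6, 2, 8, 7, 6, 2, 1],
    [2, 3, 4, 6, 2, 3, 7, 6, 2, 1]]

/-- The last generator of the centraliser as five conjugates of the third: their words in the generators of the centraliser. -/
def lastFactors : List (List Nat) :=
  [[2, 3, 4, 5, 6, 2, 7, 6, 8, 4, 3],
    [2, 3, 4, 5, 6, 7, 8, 4, 3, 5],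
    [2, 3, 4, 5, 6, 7, 8, 4, 3, 2],
    [2, 1, 3, 4, 5, 8, 4, 3],
    [2, 3, 4, 5, 6, 2, 3, 7, 8, 4, 3, 2, 7]]

end Cfsg.Lib.CosetEnum.Fi22Mult
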