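import Cfsg.Agent.Lib.CosetEnum.GFFour

/-! Generated certificate. -/

set_option autoImplicit false
set_option maxRecDepth 100000

namespace Cfsg.Lib.CosetEnum.Fi22Mult

open GF4 (o i w v)

/-- A matrix of the triple cover. -/
def mat0 : List (List GF4) :=
  [[o, o, o, o, o, o, i, i, i, i, i, i, w, w, w, w, w, o, o, o, o, o, o, o, o, o, o],
    [o, i, i, i, i, i, o, o, v, v, v, v, o, i, i, i, i, v, v, v, v, o, o, o, o, o, o],
    [o, i, i, i, i, i, o, v, o, v, v, v, i, o, i, i, i, v, o, o, o, v, v, v, o, o, o],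
    [o, i, i, i, i, i, o, v, v, o, v, v, i, i, o, i, i, o, v, o, o, v, o, o, v, v, o],
    [o, i, i, i, i, i, o, v, v, v, o, v, i, i, i, o, i, o, o, v, o, o, v, o, v, o, v],
    [o, i, i, i, i, i, o, v, v, v, v, o, i, i, i, i, o, o, o, o, v, o, o, v, o, v, v],
    [i, o, o, o, o, o, i, i, i, i, i, i, o, o, o, o, o, i, i, i, i, i, i, i, i, i, i],
    [i, o, w, w, w, w, i, o, o, o, o, o, w, o, o, o, o, i, i, i, i, o, o, o, o, o, o],
    [i, w, o, w, w, w, i, o, o, o, o, o, o, w, o, o, o, i, o, o, o, i, i, i, o, o, o],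
    [i, w, w, o, w, w, i, o, o, o, o, o, o, o, w, o, o, o, i, o, o, i, o, o, i, i, o],
    [i, w, w, w, o, w, i, o, o, o, o, o, o, o, o, w, o, o, o, i, o, o, i, o, i, o, i],
    [i, w, w, w, w, o, i, o, o, o, o, o, o, o, o, o, w, o, o, o, i, o, o, i, o, i, i],
    [v, o, i, i, i, i, o, v, o, o, o, o, i, i, i, i, i, o, o, o, o, v, v, v, v, v, v],
    [v, i, o, i, i, i, o, o, v, o, o, o, i, i, i, i, i, o, v, v, v, o, o, o, v, v, v],
    [v, i, i, o, i, i, o, o, o, v, o, o, i, i, i, i, i, v, o, v, v, o, v, v, o, o, v],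
    [v, i, i, i, o, i, o, o, o, o, v, o, i, i, i, i, i, v, v, o, v, v, o, v, o, v, o],
    [v, i, i, i, i, o, o, o, o, o, o, v, i, i, i, i, i, v, v, v, o, v, v, o, v, o, o],
    [o, w, w, o, o, o, i, i, i, o, o, o, o, o, w, w, w, o, o, o, o, o, o, o, i, i, i],
    [o, w, o, w, o, o, i, i, o, i, o, o, o, w, o, w, w, o, o, o, o, o, i, i, o, o, i],
    [o, w, o, o, w, o, i, i, o, o, i, o, o, w, w, o, w, o, o, o, o, i, o, i, o, i, o],
    [o, w, o, o, o, w, i, i, o, o, o, i, o, w, w, w, o, o, o, o, o, i, i, o, i, o, o],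
    [o, o, w, w, o, o, i, o, i, i, o, o, w, o, o, w, w, o, o, i, i, o, o, o, o, o, i],
    [o, o, w, o, w, o, i, o, i, o, i, o, w, o, w, o, w, o, i, o, i, o, o, o, o, i, o],
    [o, o, w, o, o, w, i, o, i, o, o, i, w, o, w, w, o, o, i, i, o, o, o, o, i, o, o],
    [o, o, o, w, w, o, i, o, o, i, i, o, w, w, o, o, w, i, o, o, i, o, o, i, o, o, o],
    [o, o, o, w, o, w, i, o, o, i, o, i, w, w, o, w, o, i, o, i, o, o, i, o, o, o, o],
    [o, o, o, o, w, w, i, o, o, o, i, i, w, w, w, o, o, i, i, o, o, i, o, o, o, o, o]]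

/-- A matrix of the triple cover. -/
def mat1 : List (List GF4) :=
  [[o, i, o, o, o, o, o, o, o, o, o, o, o, o, o, o, o, o, o, o, o, o, o, o, o, o, o],
    [i, o, o, o, o, o, o, o, o, o, o, o, o, o, o, o, o, o, o, o, o, o, o, o, o, o, o],
    [o, o, i, o, o, o, o, o, o, o, o, o, o, o, o, o, o, o, o, o, o, o, o, o, o, o, o],
    [o, o, o, i, o, o, o, o, o, o, o, o, o, o, o, o, o, o, o, o, o, o, o, o, o, o, o],
    [o, o, o, o, i, o, o, o, o, o, o, o, o, o, o, o, o, o, o, o, o, o, o, o, o, o, o],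
    [o, o, o, o, o, i, o, o, o, o, o, o, o, o, o, o, o, o, o, o, o, o, o, o, o, o, o],
    [o, o, o, o, o, o, o, i, o, o, o, o, o, o, o, o, o, o, o, o, o, o, o, o, o, o, o],
    [o, o, o, o, o, o, i, o, o, o, o, o, o, o, o, o, o, o, o, o, o, o, o, o, o, o, o],
    [o, o, o, o, o, o, o, o, i, o, o, o, o, o, o, o, o, o, o, o, o, o, o, o, o, o, o],
    [o, o, o, o, o, o, o, o, o, i, o, o, o, o, o, o, o, o, o, o, o, o, o, o, o, o, o],
    [o, o, o, o, o, o, o, o, o, o, i, o, o, o, o, o, o, o, o, o, o, o, o, o, o, o, o],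
    [o, o, o, o, o, o, o, o, o, o, o, i, o, o, o, o, o, o, o, o, o, o, o, o, o, o, o],
    [o, o, o, o, o, o, o, o, o, o, o, o, i, o, o, o, o, o, o, o, o, o, o, o, o, o, o],
    [o, o, o, o, o, o, o, o, o, o, o, o, o, o, o, o, o, i, o, o, o, o, o, o, o, o, o],
    [o, o, o, o, o, o, o, o, o, o, o, o, o, o, o, o, o, o, i, o, o, o, o, o, o, o, o],
    [o, o, o, o, o, o, o, o, o, o, o, o, o, o, o, o, o, o, o, i, o, o, o, o, o, o, o],
    [o, o, o, o, o, o, o, o, o, o, o, o, o, o, o, o, o, o, o, o, i, o, o, o, o, o, o],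
    [o, o, o, o, o, o, o, o, o, o, o, o, o, i, o, o, o, o, o, o, o, o, o, o, o, o, o],
    [o, o, o, o, o, o, o, o, o, o, o, o, o, o, i, o, o, o, o, o, o, o, o, o, o, o, o],
    [o, o, o, o, o, o, o, o, o, o, o, o, o, o, o, i, o, o, o, o, o, o, o, o, o, o, o],
    [o, o, o, o, o, o, o, o, o, o, o, o, o, o, o, o, i, o, o, o, o, o, o, o, o, o, o],
    [o, o, o, o, o, o, o, o, o, o, o, o, o, o, o, o, o, o, o, o, o, i, o, o, o, o, o],
    [o, o, o, o, o, o, o, o, o, o, o, o, o, o, o, o, o, o, o, o, o, o, i, o, o, o, o],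
    [o, o, o, o, o, o, o, o, o, o, o, o, o, o, o, o, o, o, o, o, o, o, o, i, o, o, o],
    [o, o, o, o, o, o, o, o, o, o, o, o, o, o, o, o, o, o, o, o, o, o, o, o, i, o, o],
    [o, o, o, o, o, o, o, o, o, o, o, o, o, o, o, o, o, o, o, o, o, o, o, o, o, i, o],
    [o, o, o, o, o, o, o, o, o, o, o, o, o, o, o, o, o, o, o, o, o, o, o, o, o, o, i]]

/-- A matrix of the triple cover. -/
def mat2 : List (List GF4) :=
  [[i, o, o, o, o, o, o, o, o, o, o, o, o, o, o, o, o, o, o, o, o, o, o, o, o, o, o],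
    [o, o, i, o, o, o, o, o, o, o, o, o, o, o, o, o, o, o, o, o, o, o, o, o, o, o, o],
    [o, i, o, o, o, o, o, o, o, o, o, o, o, o, o, o, o, o, o, o, o, o, o, o, o, o, o],
    [o, o, o, i, o, o, o, o, o, o, o, o, o, o, o, o, o, o, o, o, o, o, o, o, o, o, o],
    [o, o, o, o, i, o, o, o, o, o, o, o, o, o, o, o, o, o, o, o, o, o, o, o, o, o, o],
    [o, o, o, o, o, i, o, o, o, o, o, o, o, o, o, o, o, o, o, o, o, o, o, o, o, o, o],
    [o, o, o, o, o, o, i, o, o, o, o, o, o, o, o, o, o, o, o, o, o, o, o, o, o, o, o],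
    [o, o, o, o, o, o, o, o, i, o, o, o, o, o, o, o, o, o, o, o, o, o, o, o, o, o, o],
    [o, o, o, o, o, o, o, i, o, o, o, o, o, o, o, o, o, o, o, o, o, o, o, o, o, o, o],
    [o, o, o, o, o, o, o, o, o, i, o, o, o, o, o, o, o, o, o, o, o, o, o, o, o, o, o],
    [o, o, o, o, o, o, o, o, o, o, i, o, o, o, o, o, o, o, o, o, o, o, o, o, o, o, o],
    [o, o, o, o, o, o, o, o, o, o, o, i, o, o, o, o, o, o, o, o, o, o, o, o, o, o, o],
    [o, o, o, o, o, o, o, o, o, o, o, o, o, i, o, o, o, o, o, o, o, o, o, o, o, o, o],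
    [o, o, o, o, o, o, o, o, o, o, o, o, i, o, o, o, o, o, o, o, o, o, o, o, o, o, o],
    [o, o, o, o, o, o, o, o, o, o, o, o, o, o, i, o, o, o, o, o, o, o, o, o, o, o, o],
    [o, o, o, o, o, o, o, o, o, o, o, o, o, o, o, i, o, o, o, o, o, o, o, o, o, o, o],
    [o, o, o, o, o, o, o, o, o, o, o, o, o, o, o, o, i, o, o, o, o, o, o, o, o, o, o],
    [o, o, o, o, o, o, o, o, o, o, o, o, o, o, o, o, o, i, o, o, o, o, o, o, o, o, o],
    [o, o, o, o, o, o, o, o, o, o, o, o, o, o, o, o, o, o, o, o, o, i, o, o, o, o, o],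
    [o, o, o, o, o, o, o, o, o, o, o, o, o, o, o, o, o, o, o, o, o, o, i, o, o, o, o],
    [o, o, o, o, o, o, o, o, o, o, o, o, o, o, o, o, o, o, o, o, o, o, o, i, o, o, o],
    [o, o, o, o, o, o, o, o, o, o, o, o, o, o, o, o, o, o, i, o, o, o, o, o, o, o, o],
    [o, o, o, o, o, o, o, o, o, o, o, o, o, o, o, o, o, o, o, i, o, o, o, o, o, o, o],
    [o, o, o, o, o, o, o, o, o, o, o, o, o, o, o, o, o, o, o, o, i, o, o, o, o, o, o],
    [o, o, o, o, o, o, o, o, o, o, o, o, o, o, o, o, o, o, o, o, o, o, o, o, i, o, o],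
    [o, o, o, o, o, o, o, o, o, o, o, o, o, o, o, o, o, o, o, o, o, o, o, o, o, i, o],
    [o, o, o, o, o, o, o, o, o, o, o, o, o, o, o, o, o, o, o, o, o, o, o, o, o, o, i]]

/-- A matrix of the triple cover. -/
def mat3 : List (List GF4) :=
  [[i, o, o, o, o, o, o, o, o, o, o, o, o, o, o, o, o, o, o, o, o, o, o, o, o, o, o],
    [o, i, o, o, o, o, o, o, o, o, o, o, o, o, o, o, o, o, o, o, o, o, o, o, o, o, o],
    [o, o, o, i, o, o, o, o, o, o, o, o, o, o, o, o, o, o, o, o, o, o, o, o, o, o, o],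
    [o, o, i, o, o, o, o, o, o, o, o, o, o, o, o, o, o, o, o, o, o, o, o, o, o, o, o],
    [o, o, o, o, i, o, o, o, o, o, o, o, o, o, o, o, o, o, o, o, o, o, o, o, o, o, o],
    [o, o, o, o, o, i, o, o, o, o, o, o, o, o, o, o, o, o, o, o, o, o, o, o, o, o, o],
    [o, o, o, o, o, o, i, o, o, o, o, o, o, o, o, o, o, o, o, o, o, o, o, o, o, o, o],
    [o, o, o, o, o, o, o, i, o, o, o, o, o, o, o, o, o, o, o, o, o, o, o, o, o, o, o],
    [o, o, o, o, o, o, o, o, o, i, o, o, o, o, o, o, o, o, o, o, o, o, o, o, o, o, o],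
    [o, o, o, o, o, o, o, o, i, o, o, o, o, o, o, o, o, o, o, o, o, o, o, o, o, o, o],
    [o, o, o, o, o, o, o, o, o, o, i, o, o, o, o, o, o, o, o, o, o, o, o, o, o, o, o],
    [o, o, o, o, o, o, o, o, o, o, o, i, o, o, o, o, o, o, o, o, o, o, o, o, o, o, o],
    [o, o, o, o, o, o, o, o, o, o, o, o, i, o, o, o, o, o, o, o, o, o, o, o, o, o, o],
    [o, o, o, o, o, o, o, o, o, o, o, o, o, o, i, o, o, o, o, o, o, o, o, o, o, o, o],
    [o, o, o, o, o, o, o, o, o, o, o, o, o, i, o, o, o, o, o, o, o, o, o, o, o, o, o],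
    [o, o, o, o, o, o, o, o, o, o, o, o, o, o, o, i, o, o, o, o, o, o, o, o, o, o, o],
    [o, o, o, o, o, o, o, o, o, o, o, o, o, o, o, o, i, o, o, o, o, o, o, o, o, o, o],
    [o, o, o, o, o, o, o, o, o, o, o, o, o, o, o, o, o, o, i, o, o, o, o, o, o, o, o],
    [o, o, o, o, o, o, o, o, o, o, o, o, o, o, o, o, o, i, o, o, o, o, o, o, o, o, o],
    [o, o, o, o, o, o, o, o, o, o, o, o, o, o, o, o, o, o, o, i, o, o, o, o, o, o, o],
    [o, o, o, o, o, o, o, o, o, o, o, o, o, o, o, o, o, o, o, o, i, o, o, o, o, o, o],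
    [o, o, o, o, o, o, o, o, o, o, o, o, o, o, o, o, o, o, o, o, o, i, o, o, o, o, o],
    [o, o, o, o, o, o, o, o, o, o, o, o, o, o, o, o, o, o, o, o, o, o, o, o, i, o, o],
    [o, o, o, o, o, o, o, o, o, o, o, o, o, o, o, o, o, o, o, o, o, o, o, o, o, i, o],
    [o, o, o, o, o, o, o, o, o, o, o, o, o, o, o, o, o, o, o, o, o, o, i, o, o, o, o],
    [o, o, o, o, o, o, o, o, o, o, o, o, o, o, o, o, o, o, o, o, o, o, o, i, o, o, o],
    [o, o, o, o, o, o, o, o, o, o, o, o, o, o, o, o, o, o, o, o, o, o, o, o, o, o, i]]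

/-- A matrix of the triple cover. -/
def mat4 : List (List GF4) :=
  [[i, o, o, o, o, o, o, o, o, o, o, o, o, o, o, o, o, o, o, o, o, o, o, o, o, o, o],
    [o, i, o, o, o, o, o, o, o, o, o, o, o, o, o, o, o, o, o, o, o, o, o, o, o, o, o],
    [o, o, i, o, o, o, o, o, o, o, o, o, o, o, o, o, o, o, o, o, o, o, o, o, o, o, o],
    [o, o, o, o, i, o, o, o, o, o, o, o, o, o, o, o, o, o, o, o, o, o, o, o, o, o, o],
    [o, o, o, i, o, o, o, o, o, o, o, o, o, o, o, o, o, o, o, o, o, o, o, o, o, o, o],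
    [o, o, o, o, o, i, o, o, o, o, o, o, o, o, o, o, o, o, o, o, o, o, o, o, o, o, o],
    [o, o, o, o, o, o, i, o, o, o, o, o, o, o, o, o, o, o, o, o, o, o, o, o, o, o, o],
    [o, o, o, o, o, o, o, i, o, o, o, o, o, o, o, o, o, o, o, o, o, o, o, o, o, o, o],
    [o, o, o, o, o, o, o, o, i, o, o, o, o, o, o, o, o, o, o, o, o, o, o, o, o, o, o],
    [o, o, o, o, o, o, o, o, o, o, i, o, o, o, o, o, o, o, o, o, o, o, o, o, o, o, o],
    [o, o, o, o, o, o, o, o, o, i, o, o, o, o, o, o, o, o, o, o, o, o, o, o, o, o, o],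
    [o, o, o, o, o, o, o, o, o, o, o, i, o, o, o, o, o, o, o, o, o, o, o, o, o, o, o],
    [o, o, o, o, o, o, o, o, o, o, o, o, i, o, o, o, o, o, o, o, o, o, o, o, o, o, o],
    [o, o, o, o, o, o, o, o, o, o, o, o, o, i, o, o, o, o, o, o, o, o, o, o, o, o, o],
    [o, o, o, o, o, o, o, o, o, o, o, o, o, o, o, i, o, o, o, o, o, o, o, o, o, o, o],
    [o, o, o, o, o, o, o, o, o, o, o, o, o, o, i, o, o, o, o, o, o, o, o, o, o, o, o],
    [o, o, o, o, o, o, o, o, o, o, o, o, o, o, o, o, i, o, o, o, o, o, o, o, o, o, o],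
    [o, o, o, o, o, o, o, o, o, o, o, o, o, o, o, o, o, i, o, o, o, o, o, o, o, o, o],
    [o, o, o, o, o, o, o, o, o, o, o, o, o, o, o, o, o, o, o, i, o, o, o, o, o, o, o],
    [o, o, o, o, o, o, o, o, o, o, o, o, o, o, o, o, o, o, i, o, o, o, o, o, o, o, o],
    [o, o, o, o, o, o, o, o, o, o, o, o, o, o, o, o, o, o, o, o, i, o, o, o, o, o, o],
    [o, o, o, o, o, o, o, o, o, o, o, o, o, o, o, o, o, o, o, o, o, o, i, o, o, o, o],
    [o, o, o, o, o, o, o, o, o, o, o, o, o, o, o, o, o, o, o, o, o, i, o, o, o, o, o],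
    [o, o, o, o, o, o, o, o, o, o, o, o, o, o, o, o, o, o, o, o, o, o, o, i, o, o, o],
    [o, o, o, o, o, o, o, o, o, o, o, o, o, o, o, o, o, o, o, o, o, o, o, o, i, o, o],
    [o, o, o, o, o, o, o, o, o, o, o, o, o, o, o, o, o, o, o, o, o, o, o, o, o, o, i],
    [o, o, o, o, o, o, o, o, o, o, o, o, o, o, o, o, o, o, o, o, o, o, o, o, o, i, o]]

/-- A matrix of the triple cover. -/
def mat5 : List (List GF4) :=
  [[i, o, o, o, o, o, o, o, o, o, o, o, o, o, o, o, o, o, o, o, o, o, o, o, o, o, o],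
    [o, i, o, o, o, o, o, o, o, o, o, o, o, o, o, o, o, o, o, o, o, o, o, o, o, o, o],
    [o, o, i, o, o, o, o, o, o, o, o, o, o, o, o, o, o, o, o, o, o, o, o, o, o, o, o],
    [o, o, o, i, o, o, o, o, o, o, o, o, o, o, o, o, o, o, o, o, o, o, o, o, o, o, o],
    [o, o, o, o, o, i, o, o, o, o, o, o, o, o, o, o, o, o, o, o, o, o, o, o, o, o, o],
    [o, o, o, o, i, o, o, o, o, o, o, o, o, o, o, o, o, o, o, o, o, o, o, o, o, o, o],
    [o, o, o, o, o, o, i, o, o, o, o, o, o, o, o, o, o, o, o, o, o, o, o, o, o, o, o],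
    [o, o, o, o, o, o, o, i, o, o, o, o, o, o, o, o, o, o, o, o, o, o, o, o, o, o, o],
    [o, o, o, o, o, o, o, o, i, o, o, o, o, o, o, o, o, o, o, o, o, o, o, o, o, o, o],
    [o, o, o, o, o, o, o, o, o, i, o, o, o, o, o, o, o, o, o, o, o, o, o, o, o, o, o],
    [o, o, o, o, o, o, o, o, o, o, o, i, o, o, o, o, o, o, o, o, o, o, o, o, o, o, o],
    [o, o, o, o, o, o, o, o, o, o, i, o, o, o, o, o, o, o, o, o, o, o, o, o, o, o, o],
    [o, o, o, o, o, o, o, o, o, o, o, o, i, o, o, o, o, o, o, o, o, o, o, o, o, o, o],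
    [o, o, o, o, o, o, o, o, o, o, o, o, o, i, o, o, o, o, o, o, o, o, o, o, o, o, o],
    [o, o, o, o, o, o, o, o, o, o, o, o, o, o, i, o, o, o, o, o, o, o, o, o, o, o, o],
    [o, o, o, o, o, o, o, o, o, o, o, o, o, o, o, o, i, o, o, o, o, o, o, o, o, o, o],
    [o, o, o, o, o, o, o, o, o, o, o, o, o, o, o, i, o, o, o, o, o, o, o, o, o, o, o],
    [o, o, o, o, o, o, o, o, o, o, o, o, o, o, o, o, o, i, o, o, o, o, o, o, o, o, o],
    [o, o, o, o, o, o, o, o, o, o, o, o, o, o, o, o, o, o, i, o, o, o, o, o, o, o, o],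
    [o, o, o, o, o, o, o, o, o, o, o, o, o, o, o, o, o, o, o, o, i, o, o, o, o, o, o],
    [o, o, o, o, o, o, o, o, o, o, o, o, o, o, o, o, o, o, o, i, o, o, o, o, o, o, o],
    [o, o, o, o, o, o, o, o, o, o, o, o, o, o, o, o, o, o, o, o, o, i, o, o, o, o, o],
    [o, o, o, o, o, o, o, o, o, o, o, o, o, o, o, o, o, o, o, o, o, o, o, i, o, o, o],
    [o, o, o, o, o, o, o, o, o, o, o, o, o, o, o, o, o, o, o, o, o, o, i, o, o, o, o],
    [o, o, o, o, o, o, o, o, o, o, o, o, o, o, o, o, o, o, o, o, o, o, o, o, o, i, o],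
    [o, o, o, o, o, o, o, o, o, o, o, o, o, o, o, o, o, o, o, o, o, o, o, o, i, o, o],
    [o, o, o, o, o, o, o, o, o, o, o, o, o, o, o, o, o, o, o, o, o, o, o, o, o, o, i]]

/-- A matrix of the triple cover. -/
def mat6 : List (List GF4) :=
  [[o, o, o, o, o, o, i, w, w, w, w, i, i, i, i, i, w, o, o, o, i, o, o, i, o, i, i],
    [o, o, o, o, o, o, w, i, w, w, w, i, i, o, o, o, i, i, i, i, w, o, o, i, o, i, i],
    [o, o, o, o, o, o, w, w, i, w, w, i, o, i, o, o, i, i, o, o, i, i, i, w, o, i, i],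
    [o, o, o, o, o, o, w, w, w, i, w, i, o, o, i, o, i, o, i, o, i, i, o, i, i, w, i],
    [o, o, o, o, o, o, w, w, w, w, i, i, o, o, o, i, i, o, o, i, i, o, i, i, i, i, w],
    [o, o, o, o, o, i, o, o, o, o, o, o, o, o, o, o, o, o, o, o, o, o, o, o, o, o, o],
    [i, v, v, v, v, o, i, i, i, i, i, i, v, v, v, v, o, i, i, i, i, i, i, i, i, i, i],
    [v, i, v, v, v, o, i, i, i, i, i, i, v, i, i, i, i, v, v, v, o, i, i, i, i, i, i],
    [v, v, i, v, v, o, i, i, i, i, i, i, i, v, i, i, i, v, i, i, i, v, v, o, i, i, i],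
    [v, v, v, i, v, o, i, i, i, i, i, i, i, i, v, i, i, i, v, i, i, v, i, i, v, o, i],
    [v, v, v, v, i, o, i, i, i, i, i, i, i, i, i, v, i, i, i, v, i, i, v, i, v, i, o],
    [i, i, i, i, i, o, i, i, i, i, i, o, o, o, o, o, w, o, o, o, w, o, o, w, o, w, w],
    [i, i, o, o, o, o, w, w, i, i, i, o, o, o, o, o, i, o, o, o, i, i, i, w, i, w, w],
    [i, o, i, o, o, o, w, i, w, i, i, o, o, o, o, o, i, o, i, i, w, o, o, i, i, w, w],
    [i, o, o, i, o, o, w, i, i, w, i, o, o, o, o, o, i, i, o, i, w, o, i, w, o, i, w],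
    [i, o, o, o, i, o, w, i, i, i, w, o, o, o, o, o, i, i, i, o, w, i, o, w, o, w, i],
    [v, i, i, i, i, o, o, i, i, i, i, v, i, i, i, i, i, v, v, v, i, v, v, i, v, i, i],
    [o, i, i, o, o, o, i, w, w, i, i, o, o, o, i, i, w, o, o, o, i, o, o, i, i, w, w],
    [o, i, o, i, o, o, i, w, i, w, i, o, o, i, o, i, w, o, o, o, i, o, i, w, o, i, w],
    [o, i, o, o, i, o, i, w, i, i, w, o, o, i, i, o, w, o, o, o, i, i, o, w, o, w, i],
    [i, v, i, i, i, o, i, o, i, i, i, v, i, v, v, v, i, i, i, i, i, v, v, i, v, i, i],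
    [o, o, i, i, o, o, i, i, w, w, i, o, i, o, o, i, w, o, o, i, w, o, o, i, o, i, w],
    [o, o, i, o, i, o, i, i, w, i, w, o, i, o, i, o, w, o, i, o, w, o, o, i, o, w, i],
    [i, i, v, i, i, o, i, i, o, i, i, v, v, i, v, v, i, i, v, v, i, i, i, i, v, i, i],
    [o, o, o, i, i, o, i, i, i, w, w, o, i, i, o, o, w, i, o, o, w, o, o, w, o, i, i],
    [i, i, i, v, i, o, i, i, i, o, i, v, v, v, i, v, i, v, i, v, i, i, v, i, i, i, i],
    [i, i, i, i, v, o, i, i, i, i, o, v, v, v, v, i, i, v, v, i, i, v, i, i, i, i, i]]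

/-- A matrix of the triple cover. -/
def mat7 : List (List GF4) :=
  [[o, o, o, o, o, o, o, o, o, o, o, o, o, o, o, o, o, i, o, o, o, o, o, o, o, o, o],
    [o, o, o, o, o, o, o, o, o, o, o, o, o, i, o, o, o, o, o, o, o, o, o, o, o, o, o],
    [o, o, o, o, o, o, o, o, o, o, o, o, i, o, o, o, o, o, o, o, o, o, o, o, o, o, o],
    [o, o, o, i, o, o, o, o, o, o, o, o, o, o, o, o, o, o, o, o, o, o, o, o, o, o, o],
    [o, o, o, o, i, o, o, o, o, o, o, o, o, o, o, o, o, o, o, o, o, o, o, o, o, o, o],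
    [o, o, o, o, o, i, o, o, o, o, o, o, o, o, o, o, o, o, o, o, o, o, o, o, o, o, o],
    [o, o, o, o, o, o, i, o, o, o, o, o, o, o, o, o, o, o, o, o, o, o, o, o, o, o, o],
    [o, o, o, o, o, o, o, i, o, o, o, o, o, o, o, o, o, o, o, o, o, o, o, o, o, o, o],
    [o, o, o, o, o, o, o, o, i, o, o, o, o, o, o, o, o, o, o, o, o, o, o, o, o, o, o],
    [o, o, o, o, o, o, o, o, o, o, o, o, o, o, o, o, o, o, o, o, o, o, o, o, o, o, i],
    [o, o, o, o, o, o, o, o, o, o, o, o, o, o, o, o, o, o, o, o, o, o, o, o, o, i, o],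
    [o, o, o, o, o, o, o, o, o, o, o, o, o, o, o, o, o, o, o, o, o, o, o, o, i, o, o],
    [o, o, i, o, o, o, o, o, o, o, o, o, o, o, o, o, o, o, o, o, o, o, o, o, o, o, o],
    [o, i, o, o, o, o, o, o, o, o, o, o, o, o, o, o, o, o, o, o, o, o, o, o, o, o, o],
    [o, o, o, o, o, o, o, o, o, o, o, o, o, o, i, o, o, o, o, o, o, o, o, o, o, o, o],
    [o, o, o, o, o, o, o, o, o, o, o, o, o, o, o, i, o, o, o, o, o, o, o, o, o, o, o],
    [o, o, o, o, o, o, o, o, o, o, o, o, o, o, o, o, i, o, o, o, o, o, o, o, o, o, o],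
    [i, o, o, o, o, o, o, o, o, o, o, o, o, o, o, o, o, o, o, o, o, o, o, o, o, o, o],
    [o, o, o, o, o, o, o, o, o, o, o, o, o, o, o, o, o, o, i, o, o, o, o, o, o, o, o],
    [o, o, o, o, o, o, o, o, o, o, o, o, o, o, o, o, o, o, o, i, o, o, o, o, o, o, o],
    [o, o, o, o, o, o, o, o, o, o, o, o, o, o, o, o, o, o, o, o, i, o, o, o, o, o, o],
    [o, o, o, o, o, o, o, o, o, o, o, o, o, o, o, o, o, o, o, o, o, i, o, o, o, o, o],
    [o, o, o, o, o, o, o, o, o, o, o, o, o, o, o, o, o, o, o, o, o, o, i, o, o, o, o],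
    [o, o, o, o, o, o, o, o, o, o, o, o, o, o, o, o, o, o, o, o, o, o, o, i, o, o, o],
    [o, o, o, o, o, o, o, o, o, o, o, i, o, o, o, o, o, o, o, o, o, o, o, o, o, o, o],
    [o, o, o, o, o, o, o, o, o, o, i, o, o, o, o, o, o, o, o, o, o, o, o, o, o, o, o],
    [o, o, o, o, o, o, o, o, o, i, o, o, o, o, o, o, o, o, o, o, o, o, o, o, o, o, o]]

/-- A matrix of the triple cover. -/
def mat8 : List (List GF4) :=
  [[i, i, i, i, i, i, i, w, w, w, w, w, v, v, v, v, v, v, v, v, v, v, v, v, v, v, v],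
    [i, i, i, i, i, i, w, i, w, w, w, w, v, v, v, v, v, v, v, v, v, v, v, v, v, v, v],
    [i, i, i, i, i, i, w, w, i, w, w, w, v, v, v, v, v, v, v, v, v, v, v, v, v, v, v],
    [i, i, i, i, i, i, w, w, w, i, w, w, v, v, v, v, v, v, v, v, v, v, v, v, v, v, v],
    [i, i, i, i, i, i, w, w, w, w, i, w, v, v, v, v, v, v, v, v, v, v, v, v, v, v, v],
    [i, i, i, i, i, i, w, w, w, w, w, i, v, v, v, v, v, v, v, v, v, v, v, v, v, v, v],
    [i, v, v, v, v, v, o, o, o, o, o, o, i, i, i, i, i, i, i, i, i, i, i, i, i, i, i],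
    [v, i, v, v, v, v, o, o, o, o, o, o, i, i, i, i, i, i, i, i, i, i, i, i, i, i, i],
    [v, v, i, v, v, v, o, o, o, o, o, o, i, i, i, i, i, i, i, i, i, i, i, i, i, i, i],
    [v, v, v, i, v, v, o, o, o, o, o, o, i, i, i, i, i, i, i, i, i, i, i, i, i, i, i],
    [v, v, v, v, i, v, o, o, o, o, o, o, i, i, i, i, i, i, i, i, i, i, i, i, i, i, i],
    [v, v, v, v, v, i, o, o, o, o, o, o, i, i, i, i, i, i, i, i, i, i, i, i, i, i, i],
    [w, w, w, w, w, w, i, i, i, i, i, i, i, o, o, o, o, o, o, o, o, o, o, o, o, o, o],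
    [w, w, w, w, w, w, i, i, i, i, i, i, o, i, o, o, o, o, o, o, o, o, o, o, o, o, o],
    [w, w, w, w, w, w, i, i, i, i, i, i, o, o, i, o, o, o, o, o, o, o, o, o, o, o, o],
    [w, w, w, w, w, w, i, i, i, i, i, i, o, o, o, i, o, o, o, o, o, o, o, o, o, o, o],
    [w, w, w, w, w, w, i, i, i, i, i, i, o, o, o, o, i, o, o, o, o, o, o, o, o, o, o],
    [w, w, w, w, w, w, i, i, i, i, i, i, o, o, o, o, o, i, o, o, o, o, o, o, o, o, o],
    [w, w, w, w, w, w, i, i, i, i, i, i, o, o, o, o, o, o, i, o, o, o, o, o, o, o, o],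
    [w, w, w, w, w, w, i, i, i, i, i, i, o, o, o, o, o, o, o, i, o, o, o, o, o, o, o],
    [w, w, w, w, w, w, i, i, i, i, i, i, o, o, o, o, o, o, o, o, i, o, o, o, o, o, o],
    [w, w, w, w, w, w, i, i, i, i, i, i, o, o, o, o, o, o, o, o, o, i, o, o, o, o, o],
    [w, w, w, w, w, w, i, i, i, i, i, i, o, o, o, o, o, o, o, o, o, o, i, o, o, o, o],
    [w, w, w, w, w, w, i, i, i, i, i, i, o, o, o, o, o, o, o, o, o, o, o, i, o, o, o],
    [w, w, w, w, w, w, i, i, i, i, i, i, o, o, o, o, o, o, o, o, o, o, o, o, i, o, o],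
    [w, w, w, w, w, w, i, i, i, i, i, i, o, o, o, o, o, o, o, o, o, o, o, o, o, i, o],
    [w, w, w, w, w, w, i, i, i, i, i, i, o, o, o, o, o, o, o, o, o, o, o, o, o, o, i]]

/-- The matrices of the generators. -/
def mats : List (List (List GF4)) :=
  [mat0, mat1, mat2, mat3, mat4, mat5, mat6, mat7, mat8]

/-- The scalar of the spider relator. -/
def lam : GF4 :=
  GF4.w

end Cfsg.Lib.CosetEnum.Fi22Mult
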